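import Cfsg.Agent.Mrg.Omega.NO3S.Level.Lim
import Cfsg.Agent.Mrg.Omega.Exit.WeakClosed


/-!
# The case `HypC` of NO-3S, cut by `V_P ≤ V^!(S)` (helper781, #16560)

* `FFBeta` : some `P ∈ P**` has `V_P ≰ V^!(S)`; then `V_P` is an FF-module (`HypC.off`): there is a level
  `K ≤ O₂(P)` (`J(S) ≤ K ≤ S`, `N_G(T) ≤ N_G(K)` for `K ≤ T ≤ S`) and a best offender `A ≤ S` on `Ω₁(Z(K)) ≥ V_P` with
  `A ≰ O₂(P)`; the next level `nxt S K` is the join of `C_S(Ω₁(Z(K)))` and these `A`;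
* `Gamma` : all `P ∈ P**` have `V_P ≤ V^!(S)`; `V^!(S)` is not FF (`nff_VB`);
* `jc_of`, `ffJ_of`, `notFF_of`.
-/

set_option autoImplicit false

namespace Cfsg.Agent.Omega.NO3S.Level

open Subgroup Cfsg Cfsg.Agent.ZN Cfsg.Agent.Omega.MinPar Cfsg.Agent.Omega.Frame Cfsg.Agent.Omega.FrameNOFF

universe u

variable (K : Cls.{u})

/-- **(β)** some `P ∈ P**` has `V_P ≰ V^!(S)`. -/
def FFBeta : Prop :=
  ∀ (G : Type u) [Group G] [Finite G], K G → ∀ (S : Sylow 2 G) (P : Subgroup G), HypC S →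
    IsParS (S : Subgroup G) P → NonLoc P (CZ (S : Subgroup G)) →
      ¬ zl (S : Subgroup G) P ≤ VB (S : Subgroup G) → IsKnownSimple' G

/-- **(γ)** all `P ∈ P**` have `V_P ≤ V^!(S)`. -/
def Gamma : Prop :=
  ∀ (G : Type u) [Group G] [Finite G], K G → ∀ S : Sylow 2 G, HypC S →
    (∀ P : Subgroup G, IsParS (S : Subgroup G) P → NonLoc P (CZ (S : Subgroup G)) →
      zl (S : Subgroup G) P ≤ VB (S : Subgroup G)) → IsKnownSimple' G

variable {K}

theorem jc_of (h1 : FFBeta K) (h2 : Gamma K) : JC K := by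
  intro G _ _ hK S h
  by_cases hf : ∃ P : Subgroup G, IsParS (S : Subgroup G) P ∧ NonLoc P (CZ (S : Subgroup G)) ∧
      ¬ zl (S : Subgroup G) P ≤ VB (S : Subgroup G)
  · obtain ⟨P, hP, hn, hff⟩ := hf
    exact h1 G hK S P h hP hn hff
  · push Not at hf
    exact h2 G hK S h hf

section

variable {G : Type u} [Group G] [Finite G] {S : Sylow 2 G} {P : Subgroup G}

/-- **The last level in `O₂(P)`.** -/
theorem HypC.exists_BO (h : HypC S) (hP : IsParS (S : Subgroup G) P) (hn : NonLoc P (CZ (S : Subgroup G)))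
    (hv : ¬ zl (S : Subgroup G) P ≤ VB (S : Subgroup G)) :
    ∃ n, lev (S : Subgroup G) n ≤ o2 P ∧ ¬ lev (S : Subgroup G) (n + 1) ≤ o2 P ∧
      ∃ A ∈ BO (S : Subgroup G) (lev (S : Subgroup G) n), ¬ A ≤ o2 P := by
  rcases exists_lev h.ctx.char2 hP hv with h1 | h1
  · exact absurd (h.jle P hP hn) h1
  · exact h1

theorem HypC.ffMod (h : HypC S) (hP : IsParS (S : Subgroup G) P) (hn : NonLoc P (CZ (S : Subgroup G)))
    (hv : ¬ zl (S : Subgroup G) P ≤ VB (S : Subgroup G)) : FFMod (S : Subgroup G) P := by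
  obtain ⟨n, h1, -, A, hA, hAQ⟩ := HypC.exists_BO h hP hn hv
  exact ffMod_of_BO h.ctx.char2 hP (lev_isLev _ n) h1 hA hAQ

end

theorem notFF_of (h2 : Gamma K) : NotFF K := by
  intro G _ _ hK S h hff
  refine h2 G hK S h fun P hP hn => ?_
  by_contra hv
  exact hff P hP hn (HypC.ffMod h hP hn hv)

theorem ffJ_of (h1 : FFBeta K) (h2 : Gamma K) : FFJ K := fun G _ _ hK S _ h _ _ _ => jc_of h1 h2 G hK S h

end Cfsg.Agent.Omega.NO3S.Level
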