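import Cfsg.Agent.Mrg.Omega.NO3S.Level.Top
import Cfsg.Agent.Mrg.Omega.NO3S.ThmB.Main
import Cfsg.Agent.Mrg.Omega.NO3S.OneLine.Abs
import Cfsg.Agent.Mrg.Omega.NOThreeL.VF.All


/-!
# THEOREM D (helper781, #19713 (A); referee report #20334)

`M ≥ S` acts on the elementary abelian group `W`, `V_P ≤ W ≤ S`.

* `MinOff W M A` : `A ≤ M` is a 2-group, offends on `W`, and `|A / C_A(W)|` is minimal;
* `MinOff.cut` : without over-offenders on `W`, `C_A(V_P) ≤ C(W)` if `A` moves `V_P`;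
* `eq_of_min` : if `A ≤ S` is a minimal offender which moves `V_P`, `P ∈ P*(S)`, `P ≤ M`, `C_{V_P}(O²(P)) = 1`, then
  `W = V_P`;
* `Prin S M W` : every 2-subgroup of `M` which moves `W` has an `M`-conjugate in `S` which moves some `V_P`,
  `P ∈ P*(S)`; `exists_minOff` : then there is no over-offender, and some minimal offender in `S` moves some `V_P`;
* `exists_pss_min` : THEOREM B: some minimal offender in `S` moves some `V_P`, `P ∈ P**`;
* `thmD` : `W = V_P` for some `P ∈ P**`; `thmD_MZ`, `thmD_M0` : the cases `W = ⟨Z^M⟩`, `M = ⟨P*(S)⟩` and `M = M₀`.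
-/

set_option autoImplicit false
set_option linter.unusedSectionVars false

namespace Cfsg.Agent.Omega.NO3S.Level

open Subgroup Cfsg Cfsg.Agent.ZN Cfsg.Agent.ZN.ChoiceBase Cfsg.Agent.Omega.MinPar Cfsg.Agent.Omega.Frame
open Cfsg.Agent.Omega.FrameNOFF (CZ)
open Cfsg.Agent.Omega.FFThm (OffM ElemM NoOverM StmtM ConclM syl_of_sylow)
open Cfsg.Agent.Omega.FrameFF (cv)
open Cfsg.Agent.Omega.NOThreeL.VF (fM fM_le fM_cj fM_of_le le_fM_iff fM_le_iff fM_mul exists_two card_eq_rel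
  fM_congr elemM_cj gallery)
open Cfsg.Agent.Omega.NOThreeL.Merge (MZ)

universe u

variable {G : Type u} [Group G] [Finite G] {S : Sylow 2 G} {M W V P A B : Subgroup G}

/-- `A ≤ M` is a 2-group which offends on `W`, with `|A / C_A(W)|` minimal. -/
structure MinOff (W M A : Subgroup G) : Prop where
  le : A ≤ M
  pg : IsPGroup 2 A
  off : OffM W A
  min : ∀ B ≤ M, IsPGroup 2 B → OffM W B →
    (centralizer (W : Set G)).relIndex A ≤ (centralizer (W : Set G)).relIndex B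

theorem off_of_fM (hE : ElemM W A) (hne : ¬ A ≤ centralizer (W : Set G)) (h : Nat.card W ≤ fM W A) : OffM W A :=
  ⟨hE, hne, le_fM_iff.1 h⟩

/-- **The cut**: a minimal offender which moves `V` has `C_A(V) ≤ C(W)`. -/
theorem MinOff.cut (m : MinOff W M A) (hVW : V ≤ W)
    (hno : Nat.card A * Nat.card ↥(V ⊓ centralizer (A : Set G)) ≤ Nat.card V * Nat.card ↥(A ⊓ centralizer (V : Set G)))
    (hne : ¬ A ≤ centralizer (V : Set G)) : A ⊓ centralizer (V : Set G) ≤ centralizer (W : Set G) := by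
  by_contra hcon
  set A₁ : Subgroup G := A ⊓ centralizer (V : Set G) with hA₁
  have h1 : Nat.card W ≤ fM W A₁ := (le_fM_iff.2 m.off.le).trans (fM_le hVW hno)
  have h2 : OffM W A₁ := off_of_fM (NOThreeL.VF.elemM_mono m.off.toElemM inf_le_left) hcon h1
  have h3 := m.min A₁ (inf_le_left.trans m.le) (m.pg.to_le inf_le_left) h2
  have e4 : A₁ ⊓ centralizer (W : Set G) = A ⊓ centralizer (W : Set G) := by
    rw [hA₁, inf_assoc, inf_eq_right.2 (centralizer_le (s := (V : Set G)) hVW)]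
  have h4 : Nat.card A ≤ Nat.card A₁ := by
    rw [card_eq_rel W A, card_eq_rel W A₁, e4]
    exact Nat.mul_le_mul_right _ h3
  have h5 : A₁ = A := Subgroup.eq_of_le_of_card_ge inf_le_left h4
  exact hne (inf_eq_left.1 h5)

theorem MinOff.cj (m : MinOff W M A) {g : G} (hg : g ∈ M) (hM : M ≤ normalizer (W : Set G)) :
    MinOff W M (ChoiceBase.cj g A) where
  le := by
    have h1 := cj_mono g m.le
    rwa [cj_eq_of_mem_normalizer (le_normalizer hg)] at h1
  pg := isPGroup_cj g m.pg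
  off := by
    have h1 := fM_cj (A := A) (hM hg)
    refine off_of_fM (elemM_cj (hM hg) m.off.toElemM) (fun h => m.off.ne ?_) ?_
    · have h2 := cj_mono g⁻¹ h
      rw [cj_inv_cj, cj_centralizer, cj_eq_of_mem_normalizer (inv_mem (hM hg))] at h2
      exact h2
    · rw [h1.1]
      exact le_fM_iff.2 m.off.le
  min := fun B hB hB2 hoff => by
    rw [(fM_cj (A := A) (hM hg)).2]
    exact m.min B hB hB2 hoff

/-- No over-offender on `V_P` in `P`. -/
theorem noOver_line (hFF : StmtM.{u}) (hc : IsCharacteristicTwoType G) (hP : IsParS (S : Subgroup G) P)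
    (hA : A ≤ P) (hE : ElemM (zl (S : Subgroup G) P) A) (hne : ¬ A ≤ centralizer (zl (S : Subgroup G) P : Set G)) :
    Nat.card A * Nat.card ↥(zl (S : Subgroup G) P ⊓ centralizer (A : Set G)) ≤
      Nat.card (zl (S : Subgroup G) P) * Nat.card ↥(A ⊓ centralizer (zl (S : Subgroup G) P : Set G)) := by
  by_contra hcon
  have hoff : OffM (zl (S : Subgroup G) P) A := ⟨hE, hne, (not_le.1 hcon).le⟩
  exact hcon ((hFF G (S : Subgroup G) P (syl_of_sylow S hP.le) hP.toIsMinPar (hP.isLoc.char2 S hc) ⟨A, hA, hoff⟩).1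
    A hA hE)

/-- **THEOREM D, the core**: `W = V_P`. -/
theorem eq_of_min (hFF : StmtM.{u}) (hc : IsCharacteristicTwoType G) (hP : IsParS (S : Subgroup G) P) (hPM : P ≤ M)
    (hcv : cv (S : Subgroup G) P = ⊥) (hWc : W ≤ centralizer (W : Set G)) (hWs : ∀ x ∈ W, x ^ 2 = 1)
    (hMW : M ≤ normalizer (W : Set G)) (hVW : zl (S : Subgroup G) P ≤ W) (hWS : W ≤ (S : Subgroup G))
    (no : NoOverM W M) (m : MinOff W M A) (hAS : A ≤ (S : Subgroup G))
    (hne : ¬ A ≤ centralizer (zl (S : Subgroup G) P : Set G)) : W = zl (S : Subgroup G) P := by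
  have hSP : (S : Subgroup G) ≤ P := hP.le
  have hAP : A ≤ P := hAS.trans hSP
  have hC : centralizer (W : Set G) ≤ centralizer (zl (S : Subgroup G) P : Set G) := centralizer_le hVW
  have hEV : ElemM (zl (S : Subgroup G) P) A :=
    ⟨fun a ha => hC (m.off.sq a ha), fun a ha b hb => hC (m.off.comm a ha b hb)⟩
  have hAC := m.cut hVW (noOver_line hFF hc hP hAP hEV hne) hne
  have s : NOThreeL.VF.Q.Sit M W (zl (S : Subgroup G) P) :=
    { ab := fun x hx y hy => (mem_centralizer_iff.1 (hWc hx) y hy).symm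
      sq := fun x hx => by rw [← pow_two]; exact hWs x hx
      VW := hVW
      nW := hMW }
  have hoffV := s.offM_of m.off hne hAC
  obtain ⟨hno, hcon⟩ := hFF G (S : Subgroup G) P (syl_of_sylow S hSP) hP.toIsMinPar (hP.isLoc.char2 S hc)
    ⟨A, hAP, hoffV⟩
  refine le_antisymm ?_ hVW
  rcases hcon with ⟨F, _, _, _, k, hk, ⟨N⟩⟩ | ⟨k, m', hk, hm, ⟨N⟩⟩
  · rw [hcv] at N
    exact NOThreeL.VF.Q.nat_le N s S.isPGroup' hSP hPM hWS no hno hAS m.off hne hAC
  · rw [hcv] at N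
    exact NOThreeL.VF.Q.S.sym_le N (by omega) s S.isPGroup' hSP hPM hWS no hno hAS m.off hne hAC

/-- The principle for `M` and `W`. -/
def Prin (S : Sylow 2 G) (M W : Subgroup G) : Prop :=
  ∀ B ≤ M, IsPGroup 2 B → ¬ B ≤ centralizer (W : Set G) → ∃ m ∈ M, cj m B ≤ (S : Subgroup G) ∧
    ∃ P, IsParS (S : Subgroup G) P ∧ ¬ cj m B ≤ centralizer (zl (S : Subgroup G) P : Set G)

/-- **(1)** no over-offender on `W`, and a minimal offender in `S` moves some `V_P`, `P ∈ P*(S)`. -/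
theorem exists_minOff (hFF : StmtM.{u}) (hc : IsCharacteristicTwoType G) (hMW : M ≤ normalizer (W : Set G))
    (hVW : ∀ P, IsParS (S : Subgroup G) P → zl (S : Subgroup G) P ≤ W) (hprin : Prin S M W)
    (hoff : ∃ A ≤ M, OffM W A) :
    NoOverM W M ∧ ∃ A ≤ (S : Subgroup G), MinOff W M A ∧
      ∃ P, IsParS (S : Subgroup G) P ∧ ¬ A ≤ centralizer (zl (S : Subgroup G) P : Set G) := by
  classical
  let 𝒞 : Set (Subgroup G) := {B | B ≤ M ∧ IsPGroup 2 B ∧ ElemM W B ∧ ¬ B ≤ centralizer (W : Set G)}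
  have hrep : ∀ A ≤ M, ElemM W A → ¬ A ≤ centralizer (W : Set G) → ∃ B ∈ 𝒞, fM W B = fM W A := by
    intro A hA hE hne
    obtain ⟨B, hB, hB2, h⟩ := exists_two (hA.trans hMW) hE
    refine ⟨B, ⟨hB.trans hA, hB2, NOThreeL.VF.elemM_mono hE hB, fun h1 => hne fun a ha => ?_⟩, fM_congr hB h⟩
    obtain ⟨b, hb, hab⟩ := h a ha
    have h2 := mul_mem (h1 hb) hab
    have e : b * (b⁻¹ * a) = a := by group
    rwa [e] at h2
  obtain ⟨A₀, hA₀M, hA₀⟩ := hoff
  obtain ⟨B₀, hB₀, hfB₀⟩ := hrep A₀ hA₀M hA₀.toElemM hA₀.ne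
  have hVf₀ : Nat.card W ≤ fM W B₀ := by
    rw [hfB₀]
    exact le_fM_iff.2 hA₀.le
  -- no over-offender
  have hNO : NoOverM W M := by
    obtain ⟨B₁, hB₁, hmax⟩ := Set.exists_max_image 𝒞 (fM W) (Set.toFinite _) ⟨B₀, hB₀⟩
    obtain ⟨B, ⟨hB, hBf⟩, hmin⟩ := Set.exists_min_image {B | B ∈ 𝒞 ∧ fM W B = fM W B₁}
      (fun B => (centralizer (W : Set G)).relIndex B) (Set.toFinite _) ⟨B₁, hB₁, rfl⟩
    obtain ⟨m, hm, hmS, P, hP, hmP⟩ := hprin B hB.1 hB.2.1 hB.2.2.2
    have hcj := fM_cj (A := B) (hMW hm)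
    have hWV := hVW P hP
    have hCVW : centralizer (W : Set G) ≤ centralizer (zl (S : Subgroup G) P : Set G) := centralizer_le hWV
    set A : Subgroup G := cj m B with hAd
    have hAM : A ≤ M := by
      have h1 := cj_mono m hB.1
      rwa [cj_eq_of_mem_normalizer (le_normalizer hm)] at h1
    have hAE : ElemM W A := elemM_cj (hMW hm) hB.2.2.1
    have hAW : ElemM (zl (S : Subgroup G) P) A :=
      ⟨fun a ha => hCVW (hAE.sq a ha), fun a ha b hb => hCVW (hAE.comm a ha b hb)⟩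
    have hfA : fM W A = fM W B₁ := hcj.1.trans hBf
    have hle := fM_le hWV (noOver_line hFF hc hP (hmS.trans hP.le) hAW hmP)
    set A₁ : Subgroup G := A ⊓ centralizer (zl (S : Subgroup G) P : Set G) with hA₁
    have hA₁V : A₁ ≤ centralizer (W : Set G) := by
      by_contra hcon
      have hmem : A₁ ∈ 𝒞 := ⟨inf_le_left.trans hAM, (S.isPGroup'.to_le hmS).to_le inf_le_left,
        NOThreeL.VF.elemM_mono hAE inf_le_left, hcon⟩
      have h1 := hmax A₁ hmem
      have h2 : fM W A₁ = fM W B₁ := le_antisymm h1 (hfA ▸ hle)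
      have h3 := hmin A₁ ⟨hmem, h2⟩
      rw [← hcj.2] at h3
      have e4 : A₁ ⊓ centralizer (W : Set G) = A ⊓ centralizer (W : Set G) := by
        rw [hA₁, inf_assoc, inf_eq_right.2 hCVW]
      have h4 : Nat.card A ≤ Nat.card A₁ := by
        rw [card_eq_rel W A, card_eq_rel W A₁, e4]
        exact Nat.mul_le_mul_right _ h3
      have h5 : A₁ = A := Subgroup.eq_of_le_of_card_ge inf_le_left h4
      exact hmP (inf_eq_left.1 h5)
    have hfB₁ : fM W B₁ ≤ Nat.card W := by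
      rw [← hfA, ← fM_of_le hA₁V]
      exact hle
    intro D hD hE
    rw [← fM_le_iff]
    by_cases hne : D ≤ centralizer (W : Set G)
    · exact (fM_of_le hne).le
    · obtain ⟨B', hB', h1⟩ := hrep D hD hE hne
      rw [← h1]
      exact (hmax B' hB').trans hfB₁
  refine ⟨hNO, ?_⟩
  have hne : {B | B ≤ M ∧ IsPGroup 2 B ∧ OffM W B}.Nonempty :=
    ⟨B₀, hB₀.1, hB₀.2.1, off_of_fM hB₀.2.2.1 hB₀.2.2.2 hVf₀⟩
  obtain ⟨B, ⟨hB1, hB2, hB3⟩, hmin⟩ := Set.exists_min_image _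
    (fun B => (centralizer (W : Set G)).relIndex B) (Set.toFinite _) hne
  have mB : MinOff W M B := ⟨hB1, hB2, hB3, fun D hD hD2 hDo => hmin D ⟨hD, hD2, hDo⟩⟩
  obtain ⟨m, hm, hmS, P, hP, hmP⟩ := hprin B hB1 hB2 hB3.ne
  exact ⟨cj m B, hmS, mB.cj hm hMW, P, hP, hmP⟩

/-- The family of the minimal offenders in `S` and of the subgroups of `C_S(W)`. -/
def fam (S : Subgroup G) (W M : Subgroup G) : Set (Subgroup G) :=
  {A | A ≤ S ∧ (MinOff W M A ∨ A ≤ centralizer (W : Set G))}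

/-- It is a family of best offenders (helper343 #20334). -/
theorem bfam_fam (hMW : M ≤ normalizer (W : Set G)) (no : NoOverM W M) :
    OneLine.BFam (S : Subgroup G) W M (fam (S : Subgroup G) W M) where
  le := fun A hA => hA.1
  elem := fun A hA => by
    rcases hA.2 with m | h
    · exact m.off.toElemM
    · exact ⟨fun a ha => pow_mem (h ha) 2, fun a ha b hb =>
        mul_mem (mul_mem (mul_mem (h ha) (h hb)) (inv_mem (h ha))) (inv_mem (h hb))⟩
  best := fun A hA B hAB hBA => by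
    rcases hA.2 with m | h
    · have h1 := no B (hBA.trans m.le) (NOThreeL.VF.elemM_mono m.off.toElemM hBA)
      have e : B ⊓ centralizer (W : Set G) = A ⊓ centralizer (W : Set G) :=
        le_antisymm (inf_le_inf_right _ hBA) (le_inf hAB inf_le_right)
      rw [e] at h1
      exact h1.trans m.off.le
    · have e1 : W ⊓ centralizer (B : Set G) = W := inf_eq_left.2 (le_centralizer_iff.1 (hBA.trans h))
      have e2 : W ⊓ centralizer (A : Set G) = W := inf_eq_left.2 (le_centralizer_iff.1 h)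
      rw [e1, e2]
      exact Nat.mul_le_mul_right _ (Subgroup.card_le_of_le hBA)
  cut := fun A hA B hAB hBA he => by
    refine ⟨B, ⟨hBA.trans hA.1, ?_⟩, rfl⟩
    by_cases hB : B ≤ centralizer (W : Set G)
    · exact Or.inr hB
    · rcases hA.2 with m | h
      · have e : B ⊓ centralizer (W : Set G) = A ⊓ centralizer (W : Set G) :=
          le_antisymm (inf_le_inf_right _ hBA) (le_inf hAB inf_le_right)
        refine Or.inl ⟨hBA.trans m.le, m.pg.to_le hBA, ⟨NOThreeL.VF.elemM_mono m.off.toElemM hBA, hB, ?_⟩,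
          fun D hD hD2 hDo => ?_⟩
        · rw [he, e]
          exact m.off.le
        · refine le_trans ?_ (m.min D hD hD2 hDo)
          have h1 := card_eq_rel W A
          have h2 := card_eq_rel W B
          rw [e] at h2
          have h3 := Subgroup.card_le_of_le hBA
          rw [h1, h2] at h3
          exact Nat.le_of_mul_le_mul_right h3 Nat.card_pos
      · exact absurd (hBA.trans h) hB
  conj := fun A hA g hg hS => by
    refine ⟨hS, ?_⟩
    rcases hA.2 with m | h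
    · exact Or.inl (m.cj hg hMW)
    · right
      have h1 := cj_mono g h
      rwa [cj_centralizer, cj_eq_of_mem_normalizer (hMW hg)] at h1

/-- The two copies of the definition of a family. -/
theorem toB {S U L : Subgroup G} {AA : Set (Subgroup G)} (h : OneLine.BFam S U L AA) : ThmB.BFam S U L AA :=
  ⟨h.le, h.elem, h.best, h.cut, h.conj⟩

/-- **THEOREM B**: some minimal offender in `S` moves some `V_P`, `P ∈ P**`. -/
theorem exists_pss_min (hFF : StmtM.{u}) (h : HypC S)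
    (hty : ∀ P, PSS (S : Subgroup G) P → ThmB.Main.Ty (S : Subgroup G) P)
    (hWc : W ≤ centralizer (W : Set G)) (hMW : M ≤ normalizer (W : Set G))
    (hPM : ∀ P, IsParS (S : Subgroup G) P → P ≤ M) (hZW : zc (S : Subgroup G) ≤ W) (hprin : Prin S M W)
    (hoff : ∃ A ≤ M, OffM W A) :
    NoOverM W M ∧ ∃ A ≤ (S : Subgroup G), MinOff W M A ∧
      ∃ P, PSS (S : Subgroup G) P ∧ ¬ A ≤ centralizer (zl (S : Subgroup G) P : Set G) := by
  have hc := h.ctx.char2
  have hVW : ∀ L ≤ M, zl (S : Subgroup G) L ≤ W := fun L hL => ZN.zl_le hZW (hL.trans hMW)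
  obtain ⟨no, A, hAS, m, R, hR, hAR⟩ := exists_minOff hFF hc hMW (fun P hP => hVW P (hPM P hP)) hprin hoff
  refine ⟨no, ?_⟩
  by_contra hcon
  push Not at hcon
  obtain ⟨P, hP, hPn⟩ := h.ex
  have hRn : ¬ NonLoc R (CZ (S : Subgroup G)) := fun hl => hAR (hcon A hAS m R ⟨hR, hl⟩)
  have hab : ∀ x ∈ W, ∀ y ∈ W, x * y = y * x := fun x hx y hy => (mem_centralizer_iff.1 (hWc hx) y hy).symm
  have X := toB ((bfam_fam (S := S) hMW no).mono hab (hVW (P ⊔ R) (sup_le (hPM P hP) (hPM R hR)))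
    (M := P ⊔ R) (sup_le (hPM P hP) (hPM R hR)))
  have h1 : ∀ B ∈ fam (S : Subgroup G) W M, B ≤ o2 P := by
    intro B hB
    rw [← IsParS.inf_centralizer S hc hP]
    refine le_inf hB.1 ?_
    rcases hB.2 with mB | hB2
    · exact hcon B hB.1 mB P ⟨hP, hPn⟩
    · exact hB2.trans (centralizer_le (hVW P (hPM P hP)))
  have h2 := ThmB.Main.le_of_bfam (h.hypN hP hPn) (hty P ⟨hP, hPn⟩) hR (Or.inl hRn) X h1 A ⟨hAS, Or.inl m⟩
  rw [← IsParS.inf_centralizer S hc hR] at h2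
  exact hAR (h2.trans inf_le_right)

/-- **THEOREM D.** -/
theorem thmD (h : HypC S) (hty : ∀ P, PSS (S : Subgroup G) P → ThmB.Main.Ty (S : Subgroup G) P)
    (hWc : W ≤ centralizer (W : Set G)) (hWs : ∀ x ∈ W, x ^ 2 = 1) (hMW : M ≤ normalizer (W : Set G))
    (hWS : W ≤ (S : Subgroup G)) (hPM : ∀ P, IsParS (S : Subgroup G) P → P ≤ M)
    (hZW : zc (S : Subgroup G) ≤ W) (hprin : Prin S M W) (hoff : ∃ A ≤ M, OffM W A) :
    ∃ P, PSS (S : Subgroup G) P ∧ W = zl (S : Subgroup G) P := by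
  obtain ⟨no, A, hAS, m, P, hP, hAP⟩ := exists_pss_min FF.Glob.ffthmM h hty hWc hMW hPM hZW hprin hoff
  exact ⟨P, hP, eq_of_min FF.Glob.ffthmM h.ctx.char2 hP.par (hPM P hP.par) (h.hypN hP.par hP.nonLoc).toHyp.cv hWc hWs
    hMW (ZN.zl_le hZW ((hPM P hP.par).trans hMW)) hWS no m hAS hAP⟩

/-! ### The two instances -/

/-- The types of the FF theorem from `FFMod`. -/
theorem ty_of_ff (h : HypC S) (hff : ∀ P, PSS (S : Subgroup G) P → FFMod (S : Subgroup G) P) :
    ∀ P, PSS (S : Subgroup G) P → ThmB.Main.Ty (S : Subgroup G) P := fun P hP =>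
  ThmB.Limit.ty_of_ffMod (h.hypN hP.par hP.nonLoc) (hff P hP)

/-- `⟨P*(S)⟩` is local. -/
theorem isLoc_MZ (h : HypC S) : IsLoc (S : Subgroup G) (MZ (S : Subgroup G)) :=
   NOThreeL.Merge.isLoc_MZ h.ctx h.full h.noFF

theorem prin_MZ (h : HypC S) : Prin S (MZ (S : Subgroup G)) (zl (S : Subgroup G) (MZ (S : Subgroup G))) := by
  intro B hB hB2 hne
  obtain ⟨m, hm, P, hP, -, h1, h2⟩ := gallery h.ctx.char2 S (isLoc_MZ h)
    (sSup_le fun P hP => le_sSup ⟨hP, le_sSup hP⟩) hB hB2 hne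
  exact ⟨m, hm, h1, P, hP, h2⟩

/-- **THEOREM D for `M = ⟨P*(S)⟩`**: `⟨Z^M⟩` is not FF, or `⟨Z^M⟩ = V_P` for some `P ∈ P**`. -/
theorem thmD_MZ (h : HypC S) (hty : ∀ P, PSS (S : Subgroup G) P → ThmB.Main.Ty (S : Subgroup G) P)
    (hoff : ∃ A ≤ MZ (S : Subgroup G), OffM (zl (S : Subgroup G) (MZ (S : Subgroup G))) A) :
    ∃ P, PSS (S : Subgroup G) P ∧ zl (S : Subgroup G) (MZ (S : Subgroup G)) = zl (S : Subgroup G) P := by
  have hL := isLoc_MZ h
  have h1 := hL.zl_le S h.ctx.char2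
  exact thmD h hty (h1.trans ((ZN.zc_le _).trans ((le_centralizer_zc _).trans (centralizer_le h1))))
    (fun x hx => (ChoiceBase.mem_zc.1 (h1 hx)).2.1) (ZN.le_normalizer_zl _ _) ((h1.trans (ZN.zc_le _)).trans (hL.o2_le S))
    (fun P hP => le_sSup hP) ZN.zc_le_zl (prin_MZ h) hoff

section M0

variable (hG : IsCharacteristicTwoType G) (hj : ∀ P, IsParS (S : Subgroup G) P → jj (S : Subgroup G) ≤ o2 P)

include hG hj in
/-- The principle for `M₀` and `V ≤ X₀`. -/
theorem prin_M0 (hW : W ≤ X0 (S : Subgroup G)) : Prin S (M0 (S : Subgroup G)) W := by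
  intro B hB hB2 hne
  obtain ⟨n, hn, hnS⟩ := FFThm.exists_conj_le S (S_le_M0 _) hB2 hB
  have hnK : ¬ cj n B ≤ K0 (S : Subgroup G) := by
    intro h1
    have h2 := cj_mono n⁻¹ h1
    rw [cj_inv_cj, cj_eq_of_mem_normalizer (inv_mem hn : n⁻¹ ∈ normalizer (K0 (S : Subgroup G) : Set G))] at h2
    exact hne (h2.trans ((K0_cent _).trans (centralizer_le hW)))
  obtain ⟨D, ⟨g, hg, rfl⟩, hDS, P, hP, hDP⟩ := principle (S := S) (F := {D | ∃ g ∈ M0 (S : Subgroup G), cj g B = D})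
    (fun D hD m hm => by
      obtain ⟨g, hg, rfl⟩ := hD
      exact ⟨m * g, mul_mem hm hg, (cj_cj m g B).symm⟩) ⟨n, hn, rfl⟩ hnS hnK
  refine ⟨g, hg, hDS, P, hP, fun h1 => hDP ?_⟩
  rw [← IsParS.inf_centralizer S hG hP]
  exact le_inf hDS h1

end M0

/-- **THEOREM D for `M₀`**: `⟨Z^{M₀}⟩` is not FF, or `⟨Z^{M₀}⟩ = V_P` for some `P ∈ P**`. -/
theorem thmD_M0 (h : HypC S) (hty : ∀ P, PSS (S : Subgroup G) P → ThmB.Main.Ty (S : Subgroup G) P)
    (hoff : ∃ A ≤ M0 (S : Subgroup G), OffM (zl (S : Subgroup G) (M0 (S : Subgroup G))) A) :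
    ∃ P, PSS (S : Subgroup G) P ∧ zl (S : Subgroup G) (M0 (S : Subgroup G)) = zl (S : Subgroup G) P := by
  have hj := jj_le_all h hty
  have h1 := zl_M0_le hj
  exact thmD h hty (h1.trans ((X0_comm _).trans (centralizer_le h1))) (fun x hx => X0_sq _ x (h1 hx))
    (ZN.le_normalizer_zl _ _) ((h1.trans (ZN.zc_le _)).trans (K0_le _)) (fun P hP => par_le hP) ZN.zc_le_zl
    (prin_M0 h.ctx.char2 hj h1) hoff

/-- If `⟨Z^{M₀}⟩ = V_P`, then `K₀ = O₂(P)` is weakly closed in `S`. -/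
theorem K0_eq_o2 (h : HypC S) (hty : ∀ P, PSS (S : Subgroup G) P → ThmB.Main.Ty (S : Subgroup G) P)
    (hP : IsParS (S : Subgroup G) P) (he : zl (S : Subgroup G) (M0 (S : Subgroup G)) = zl (S : Subgroup G) P) :
    K0 (S : Subgroup G) = o2 P := by
  rw [← cs_V0 h.ctx.char2 (jj_le_all h hty), he, IsParS.inf_centralizer S h.ctx.char2 hP]

end Cfsg.Agent.Omega.NO3S.Level
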