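import Cfsg.Agent.Mrg.Omega.NO3S.Level.ThmD
import Cfsg.Agent.Mrg.Omega.NOne.Flat.Conj
import Cfsg.Agent.Mrg.Omega.NOne.LemmaT
import Cfsg.Agent.Mrg.Omega.NOThreeL.NF.Final

section


/-!
# The cut of GammaFF (helper781, #19713 (B), (C))

`HypC S`, all `V_P`, `P ∈ P**`, are FF-modules.  `K₀`, `M₀ = N_G(K₀)`, `X₀ = Ω₁(Z(K₀))` as in `Level/Top.lean`.

* `W0` : no offender on `X₀` (`nxt S K₀ ≤ K₀`), with the facts which the pieces use;
* `WSt S P F` : **the W-stage**: `F` is a maximal bad subgroup of `X₀` (`Flat.Hyp`), `W_F ≤ S` and `W_F ≰ O₂(P)`,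
  `P ∈ P*(S)`;
* `HypG S (MZ S)` : `⟨Z^{⟨P*(S)⟩}⟩` is not FF and lies in `O₂(C_G(Z))` (socket `NotFFG`);
* `NFRoot S M₀`, with `⟨Z^{⟨P*(S)⟩}⟩ = V_P` for some `P ∈ P**`;
* `CaseG S P` : `K₀ = O₂(P)` is weakly closed in `S`, `⟨Z^{M₀}⟩ = V_P`, `X₀ = Ω₁(Z(O₂(P)))` is not FF and has no bad
  subgroups;
* `HypC.cut` : one of these holds.
-/

set_option autoImplicit false
set_option linter.unusedSectionVars false

namespace Cfsg.Agent.Omega.NO3S.Level

open Subgroup Cfsg Cfsg.Agent.ZN Cfsg.Agent.ZN.ChoiceBase Cfsg.Agent.Omega.MinPar Cfsg.Agent.Omega.Frame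
open Cfsg.Agent.Omega.FrameNOFF (CZ)
open Cfsg.Agent.Omega.FFThm (OffM ElemM NoOverM StmtM ConclM syl_of_sylow)
open Cfsg.Agent.Omega.NOThreeL.Merge (MZ HypG)
open Cfsg.Agent.Omega.NOThreeL.MergeNF (NFRoot)
open scoped Pointwise

universe u

variable {G : Type u} [Group G] [Finite G] {S : Sylow 2 G} {P : Subgroup G}

/-- No offender of `S` on `X₀ = Ω₁(Z(K₀))`; all `V_P`, `P ∈ P**`, are FF-modules. -/
structure W0 (S : Sylow 2 G) : Prop extends HypC S where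
  ff : ∀ P : Subgroup G, PSS (S : Subgroup G) P → FFMod (S : Subgroup G) P
  nxt : Level.nxt (S : Subgroup G) (K0 (S : Subgroup G)) ≤ K0 (S : Subgroup G)

namespace W0

variable (h : W0 S)
include h

theorem ty : ∀ P, PSS (S : Subgroup G) P → ThmB.Main.Ty (S : Subgroup G) P := ty_of_ff h.toHypC h.ff

theorem hj : ∀ P, IsParS (S : Subgroup G) P → jj (S : Subgroup G) ≤ o2 P := jj_le_all h.toHypC h.ty

theorem lev : Lev (S : Subgroup G) (K0 (S : Subgroup G)) := lev_K0 h.hj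

theorem nff : NO3b.EZero.NotFF (X0 (S : Subgroup G)) := nff_X0 h.nxt

/-- No subgroup offends on `X₀`. -/
theorem noOff {A : Subgroup G} (hA : A ≤ normalizer (X0 (S : Subgroup G) : Set G)) :
    ¬ OffM (X0 (S : Subgroup G)) A := by
  intro hoff
  obtain ⟨B, hB, hB2, h1⟩ := NOThreeL.VF.exists_two hA hoff.toElemM
  have hne : ¬ B ≤ centralizer (X0 (S : Subgroup G) : Set G) := fun hc => hoff.ne fun a ha => by
    obtain ⟨b, hb, hab⟩ := h1 a ha
    have h2 := mul_mem (hc hb) hab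
    have e : b * (b⁻¹ * a) = a := by group
    rwa [e] at h2
  have hE := NOThreeL.VF.elemM_mono hoff.toElemM hB
  have h3 := h.nff B hB2 (hB.trans hA) hE.sq hE.comm hne
  have h4 : Nat.card (X0 (S : Subgroup G)) ≤ NOThreeL.VF.fM (X0 (S : Subgroup G)) B := by
    rw [NOThreeL.VF.fM_congr hB h1]
    exact NOThreeL.VF.le_fM_iff.2 hoff.le
  exact absurd (FFThm.relIndex_le_iff.1 (NOThreeL.VF.le_fM_iff.1 h4)) (not_le.2 h3)

/-- A 2-group containing `K₀` lies in `M₀`. -/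
theorem pgroup_le {T : Subgroup G} (hT : IsPGroup 2 T) (h1 : K0 (S : Subgroup G) ≤ T) : T ≤ M0 (S : Subgroup G) := by
  obtain ⟨S', hS'⟩ := hT.exists_le_sylow
  obtain ⟨l, hl⟩ := MulAction.exists_smul_eq G S S'
  have hl2 : (S' : Subgroup G) = cj l (S : Subgroup G) := by
    rw [← hl, Sylow.coe_subgroup_smul]; rfl
  rw [hl2] at hS'
  have h2 : cj l⁻¹ (K0 (S : Subgroup G)) ≤ (S : Subgroup G) := by
    have h3 := cj_mono l⁻¹ (h1.trans hS')
    rwa [cj_inv_cj] at h3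
  have h3 : l ∈ M0 (S : Subgroup G) := by
    have := inv_mem (WC.mem_norm (wc_K0 _) h2 : l⁻¹ ∈ M0 (S : Subgroup G))
    rwa [inv_inv] at this
  refine hS'.trans ?_
  have h4 := cj_mono l (S_le_M0 (S : Subgroup G))
  rwa [cj_eq_of_mem_normalizer (Subgroup.le_normalizer h3)] at h4

/-- **Sylow control**: `O₂(X) ≤ M₀` for every `X ≥ K₀`. -/
theorem o2_le {X : Subgroup G} (hX : K0 (S : Subgroup G) ≤ X) : o2 X ≤ M0 (S : Subgroup G) := by
  obtain ⟨T, hT, h1⟩ := ChoiceSit.exists_syl (S.isPGroup'.to_le (K0_le (S : Subgroup G))) hX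
  exact (ChoiceSit.o2_le_syl hT).trans (h.pgroup_le hT.2.1 h1)

theorem syl (D : Subgroup G) (_ : D ≠ ⊥) (hD : D ≤ X0 (S : Subgroup G)) :
    o2 (centralizer (D : Set G)) ≤ normalizer (X0 (S : Subgroup G) : Set G) :=
  (h.o2_le ((K0_cent _).trans (centralizer_le hD))).trans (M0_norm _)

theorem X0_le : X0 (S : Subgroup G) ≤ (S : Subgroup G) := (ZN.zc_le _).trans (K0_le _)

theorem char2 (D : Subgroup G) (hne : D ≠ ⊥) (hD : D ≤ X0 (S : Subgroup G)) :
    centralizer (D : Set G) ⊓ centralizer (o2 (centralizer (D : Set G)) : Set G) ≤ o2 (centralizer (D : Set G)) := by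
  have hD2 : IsPGroup 2 D := S.isPGroup'.to_le (hD.trans h.X0_le)
  exact NOne.LemmaT.char2_of_normal (MinSimple.Basic.char2_normalizer h.ctx.char2 hD2 hne)
    (centralizer_le_normalizer _)
    (normalizer_le_of_cj (F := fun T => centralizer (T : Set G)) (fun g T => (cj_centralizer g T).symm) D)

/-- A bad subgroup is contained in a maximal one. -/
theorem exists_hyp {F₀ : Subgroup G} (h0 : NOne.Flat.Bad (X0 (S : Subgroup G)) F₀) :
    ∃ F, F₀ ≤ F ∧ NOne.Flat.Hyp (X0 (S : Subgroup G)) F :=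
  NOne.Flat.exists_hyp (X0_comm _) (X0_sq _) h.syl (fun _ hA => h.noOff hA) h.char2 h0

end W0

/-- `W_F` moves `V`. -/
theorem _root_.Cfsg.Agent.Omega.NOne.Flat.Hyp.W_move {V F : Subgroup G} (h : NOne.Flat.Hyp V F) :
    ¬ NOne.Flat.WW V F ≤ centralizer (V : Set G) := by
  intro h1
  have h2 : NOne.Flat.EE V F ≤ centralizer (NOne.Flat.WW V F : Set G) := inf_le_left.trans (le_centralizer_iff.1 h1)
  exact h.E_ne_F ((inf_eq_left.2 h2).symm.trans h.cent_EW)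

/-- **The W-stage**: `F` is a maximal bad subgroup of `X₀`, `W_F ≤ S` moves `V_P`, `P ∈ P*(S)`. -/
structure WSt (S : Sylow 2 G) (P F : Subgroup G) : Prop extends W0 S where
  par : IsParS (S : Subgroup G) P
  hyp : NOne.Flat.Hyp (X0 (S : Subgroup G)) F
  WS : NOne.Flat.WW (X0 (S : Subgroup G)) F ≤ (S : Subgroup G)
  mv : ¬ NOne.Flat.WW (X0 (S : Subgroup G)) F ≤ o2 P

namespace W0

variable (h : W0 S)
include h

theorem prin {W : Subgroup G} (hW : W ≤ X0 (S : Subgroup G)) : Prin S (M0 (S : Subgroup G)) W :=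
  prin_M0 h.ctx.char2 h.hj hW

/-- **(W)** -/
theorem exists_WSt (hb : ∃ F, NOne.Flat.Bad (X0 (S : Subgroup G)) F) : ∃ P F, WSt S P F := by
  obtain ⟨F₀, h0⟩ := hb
  obtain ⟨F, -, hF⟩ := h.exists_hyp h0
  have hWM : NOne.Flat.WW (X0 (S : Subgroup G)) F ≤ M0 (S : Subgroup G) :=
    NOne.Flat.Hyp.W_le_R.trans (h.o2_le ((K0_cent _).trans (centralizer_le hF.F_le_V)))
  have hW2 : IsPGroup 2 (NOne.Flat.WW (X0 (S : Subgroup G)) F) := (isPGroup_o2 _).to_le NOne.Flat.Hyp.W_le_R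
  obtain ⟨m, hm, hmS, P, hP, hmP⟩ := h.prin le_rfl _ hWM hW2 hF.W_move
  have hmV : m ∈ normalizer (X0 (S : Subgroup G) : Set G) := M0_norm _ hm
  have e : NOne.Flat.WW (X0 (S : Subgroup G)) (MulAut.conj m • F) = cj m (NOne.Flat.WW (X0 (S : Subgroup G)) F) :=
    (NOne.Flat.WW_conj hmV).symm
  refine ⟨P, MulAut.conj m • F, { toW0 := h, par := hP, hyp := hF.conj hmV, WS := ?_, mv := ?_ }⟩
  · rw [e]; exact hmS
  · rw [e]
    intro h1
    apply hmP
    rw [← IsParS.inf_centralizer S h.ctx.char2 hP] at h1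
    exact h1.trans inf_le_right

theorem zc_ne : zc (S : Subgroup G) ≠ ⊥ := MinSimple.Basic.zc_ne_bot S.isPGroup' (h.ctx.sylow_ne_bot S)

theorem zc_le_X0 : zc (S : Subgroup G) ≤ X0 (S : Subgroup G) := Level.zc_le_X0 h.hj

/-- Without bad subgroups: `X₀ ≤ O₂(C_G(Z))`. -/
theorem low_X0 (hb : ¬ ∃ F, NOne.Flat.Bad (X0 (S : Subgroup G)) F) : X0 (S : Subgroup G) ≤ o2 (CZ (S : Subgroup G)) := by
  by_contra hcon
  exact hb ⟨_, h.zc_ne, h.zc_le_X0, hcon⟩

/-- helper25's frame. -/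
theorem lines (hb : ¬ ∃ F, NOne.Flat.Bad (X0 (S : Subgroup G)) F) :
    NO3b.NoEmp.Lines S (K0 (S : Subgroup G)) (X0 (S : Subgroup G)) where
  JS := K0_le _
  wc := (wc_K0 _).eq
  NJ := M0_norm _
  JV := K0_cent _
  comm := X0_comm _
  sq := X0_sq _
  ZV := h.zc_le_X0
  nff := h.nff
  low := h.low_X0 hb

/-- `M₀` is local. -/
theorem isLoc_M0 : IsLoc (S : Subgroup G) (M0 (S : Subgroup G)) := by
  refine ⟨S_le_M0 _, fun h1 => h.zc_ne ?_⟩
  have h2 : K0 (S : Subgroup G) ≤ o2 (M0 (S : Subgroup G)) :=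
    MinSimple.VModule.le_o2 le_normalizer (S.isPGroup'.to_le (K0_le _)) le_rfl
  rw [h1] at h2
  exact le_bot_iff.1 ((h.zc_le_X0.trans (ZN.zc_le _)).trans h2)

theorem nonLoc_M0 : NonLoc (M0 (S : Subgroup G)) (CZ (S : Subgroup G)) := by
  obtain ⟨P, hP, hPn⟩ := h.ex
  exact fun U hU h1 h2 => hPn U hU ((par_le hP).trans h1) h2

/-- `C_S(⟨Z^{M₀}⟩) = K₀ ≤ O₂(M₀)` -/
theorem cs_le : (S : Subgroup G) ⊓ centralizer (zl (S : Subgroup G) (M0 (S : Subgroup G)) : Set G) ≤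
    o2 (M0 (S : Subgroup G)) := by
  rw [cs_V0 h.ctx.char2 h.hj]
  exact MinSimple.VModule.le_o2 le_normalizer (S.isPGroup'.to_le (K0_le _)) le_rfl

end W0

/-- **The case (G)**: `O₂(P) = K₀` is weakly closed, `V_P = ⟨Z^{M₀}⟩`, `X₀ = Ω₁(Z(O₂(P)))` is not FF and has no bad
subgroups. -/
structure CaseG (S : Sylow 2 G) (P : Subgroup G) : Prop extends W0 S where
  pss : PSS (S : Subgroup G) P
  eq : zl (S : Subgroup G) (M0 (S : Subgroup G)) = zl (S : Subgroup G) P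
  nbad : ¬ ∃ F, NOne.Flat.Bad (X0 (S : Subgroup G)) F

namespace CaseG

variable (h : CaseG S P)
include h

theorem K0_eq : K0 (S : Subgroup G) = o2 P := K0_eq_o2 h.toHypC h.ty h.pss.par h.eq

theorem X0_eq : X0 (S : Subgroup G) = zc (o2 P) := by rw [X0, h.K0_eq]

theorem wc : NO3b.Wc.WC (S : Subgroup G) (o2 P) := by
  rw [← h.K0_eq]; exact wc_K0 _

theorem M0_eq : M0 (S : Subgroup G) = normalizer (o2 P : Set G) := by rw [M0, h.K0_eq]

theorem zl_eq : zl (S : Subgroup G) (normalizer (o2 P : Set G)) = zl (S : Subgroup G) P := by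
  rw [← h.M0_eq, h.eq]

/-- `N_G(O₂(P)) ≤ N_G(V_P)` -/
theorem norm_le : normalizer (o2 P : Set G) ≤ normalizer (zl (S : Subgroup G) P : Set G) := by
  have h1 := ZN.le_normalizer_zl (S : Subgroup G) (normalizer (o2 P : Set G))
  rwa [h.zl_eq] at h1

theorem linesG : NO3b.NoEmp.Lines S (o2 P) (zc (o2 P)) := by
  have h1 := h.lines h.nbad
  rwa [h.X0_eq, h.K0_eq] at h1

theorem le_o2 (D : Subgroup G) (hne : D ≠ ⊥) (hD : D ≤ zc (o2 P)) : zc (o2 P) ≤ o2 (centralizer (D : Set G)) := by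
  by_contra hcon
  rw [← h.X0_eq] at hD hcon
  exact h.nbad ⟨D, hne, hD, hcon⟩

theorem hypN : HypN S P := h.toHypC.hypN h.pss.par h.pss.nonLoc

/-- `V_P < Ω₁(Z(O₂(P)))` -/
theorem lt : zl (S : Subgroup G) P < zc (o2 P) := by
  refine lt_of_le_of_ne (h.pss.par.isLoc.zl_le S h.ctx.char2) fun he => ?_
  obtain ⟨A, hAS, hA⟩ := h.ff P h.pss
  rw [he, ← h.X0_eq] at hA
  exact h.noOff (hAS.trans ((S_le_M0 _).trans (M0_norm _))) hA

end CaseG

/-- **THE CUT OF GammaFF** without offenders on `X₀`. -/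
theorem cut_of_nxt (h : HypC S) (hff : ∀ P, PSS (S : Subgroup G) P → FFMod (S : Subgroup G) P)
    (hn : nxt (S : Subgroup G) (K0 (S : Subgroup G)) ≤ K0 (S : Subgroup G)) :
    HypG S (MZ (S : Subgroup G)) ∨
    (∃ P F, WSt S P F ∧ ((∃ R, PSS (S : Subgroup G) R ∧
        zl (S : Subgroup G) (MZ (S : Subgroup G)) = zl (S : Subgroup G) R) ∨
      (¬ FFMod (S : Subgroup G) (MZ (S : Subgroup G)) ∧
        ¬ zl (S : Subgroup G) (MZ (S : Subgroup G)) ≤ o2 (CZ (S : Subgroup G))))) ∨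
    (W0 S ∧ NFRoot (S : Subgroup G) (M0 (S : Subgroup G)) ∧ ∃ R, PSS (S : Subgroup G) R ∧
      zl (S : Subgroup G) (MZ (S : Subgroup G)) = zl (S : Subgroup G) R) ∨
    ∃ P, CaseG S P := by
  have hty := ty_of_ff h hff
  have hj := jj_le_all h hty
  have w : W0 S := { toHypC := h, ff := hff, nxt := hn }
  have hV1 : zl (S : Subgroup G) (MZ (S : Subgroup G)) ≤ X0 (S : Subgroup G) := zl_le_X0 hj MZ_le
  have hS1 : (S : Subgroup G) ≤ MZ (S : Subgroup G) := (isLoc_MZ h).le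
  by_cases hf : FFMod (S : Subgroup G) (MZ (S : Subgroup G))
  · obtain ⟨A, hA, hAo⟩ := hf
    obtain ⟨R, hR, he⟩ := thmD_MZ h hty ⟨A, hA.trans hS1, hAo⟩
    right
    by_cases hb : ∃ F, NOne.Flat.Bad (X0 (S : Subgroup G)) F
    · obtain ⟨P, F, hPF⟩ := w.exists_WSt hb
      exact Or.inl ⟨P, F, hPF, Or.inl ⟨R, hR, he⟩⟩
    · right
      have hlow := w.low_X0 hb
      by_cases hoff : ∃ A ≤ M0 (S : Subgroup G), OffM (zl (S : Subgroup G) (M0 (S : Subgroup G))) A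
      · obtain ⟨P, hP, heP⟩ := thmD_M0 h hty hoff
        exact Or.inr ⟨P, { toW0 := w, pss := hP, eq := heP, nbad := hb }⟩
      · refine Or.inl ⟨w, ⟨w.isLoc_M0, w.cs_le, (zl_M0_le hj).trans hlow, ?_, w.nonLoc_M0⟩, R, hR, he⟩
        refine NO3b.Final.notFF_of (S_le_M0 _) fun hff' => ?_
        obtain ⟨A, hA, hAo⟩ := hff'
        exact hoff ⟨A, hA.trans (S_le_M0 _), hAo⟩
  · by_cases hl : zl (S : Subgroup G) (MZ (S : Subgroup G)) ≤ o2 (CZ (S : Subgroup G))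
    · left
      exact
        { ctx := h.ctx
          full := h.full
          noFF := h.noFF
          low := h.low
          loc := isLoc_MZ h
          gen := sSup_le fun P hP => le_sSup ⟨hP, le_sSup hP⟩
          nonLoc := NOThreeL.Merge.nonLoc_MZ h.ctx h.full
          lowM := hl
          nff := hf }
    · right; left
      have hb : ∃ F, NOne.Flat.Bad (X0 (S : Subgroup G)) F := by
        by_contra hb
        exact hl (hV1.trans (w.low_X0 hb))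
      obtain ⟨P, F, hPF⟩ := w.exists_WSt hb
      exact ⟨P, F, hPF, Or.inr ⟨hf, hl⟩⟩

/-- **THE CUT OF GammaFF.** -/
theorem cut (h : HypC S) (hff : ∀ P, PSS (S : Subgroup G) P → FFMod (S : Subgroup G) P) :
    (∃ P, PSS (S : Subgroup G) P ∧ ∃ K, Lev (S : Subgroup G) K ∧ (∀ R, IsParS (S : Subgroup G) R → K ≤ o2 R) ∧
      ¬ nxt (S : Subgroup G) K ≤ o2 P) ∨
    HypG S (MZ (S : Subgroup G)) ∨
    (∃ P F, WSt S P F ∧ ((∃ R, PSS (S : Subgroup G) R ∧
        zl (S : Subgroup G) (MZ (S : Subgroup G)) = zl (S : Subgroup G) R) ∨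
      (¬ FFMod (S : Subgroup G) (MZ (S : Subgroup G)) ∧
        ¬ zl (S : Subgroup G) (MZ (S : Subgroup G)) ≤ o2 (CZ (S : Subgroup G))))) ∨
    (W0 S ∧ NFRoot (S : Subgroup G) (M0 (S : Subgroup G)) ∧ ∃ R, PSS (S : Subgroup G) R ∧
      zl (S : Subgroup G) (MZ (S : Subgroup G)) = zl (S : Subgroup G) R) ∨
    ∃ P, CaseG S P := by
  have hty := ty_of_ff h hff
  have hj := jj_le_all h hty
  by_cases hn : nxt (S : Subgroup G) (K0 (S : Subgroup G)) ≤ K0 (S : Subgroup G)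
  · exact Or.inr (cut_of_nxt h hff hn)
  · obtain ⟨P, hP, h1⟩ := exists_pss h hty hj hn
    exact Or.inl ⟨P, hP, K0 (S : Subgroup G), lev_K0 hj, fun R hR => K0_le_o2 hR, h1⟩

end Cfsg.Agent.Omega.NO3S.Level

end

section


/-!
# The case (L) of the cut of GammaFF (helper781)

If the next level of `K₀` is not `K₀`, then `X₀ = Ω₁(Z(K₀))` has an offender, and THEOREM D for `W = X₀`, `M = M₀` gives
`X₀ = V_P` for some `P ∈ P**`.

* `CaseL S P` : `Ω₁(Z(K₀)) = V_P`, `P ∈ P**`; then `K₀ = O₂(P)` is weakly closed in `S`, `Ω₁(Z(O₂(P))) = V_P` (T6),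
  all of `P*(S)` and `N_G(T)`, `O₂(P) ≤ T ≤ S`, normalise `V_P`;
* `exists_caseL`, `cut'`.
-/

set_option autoImplicit false
set_option linter.unusedSectionVars false

namespace Cfsg.Agent.Omega.NO3S.Level

open Subgroup Cfsg Cfsg.Agent.ZN Cfsg.Agent.ZN.ChoiceBase Cfsg.Agent.Omega.MinPar Cfsg.Agent.Omega.Frame
open Cfsg.Agent.Omega.FrameNOFF (CZ)
open Cfsg.Agent.Omega.FFThm (OffM)
open Cfsg.Agent.Omega.NOThreeL.Merge (MZ HypG)
open Cfsg.Agent.Omega.NOThreeL.MergeNF (NFRoot)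

universe u

variable {G : Type u} [Group G] [Finite G] {S : Sylow 2 G} {P : Subgroup G}

/-- In GammaFF (`V_P ≤ V^!(S)` for all `P ∈ P**`) all levels lie in `K₀`. -/
theorem lim_le_K0 (h : HypC S) (hff : ∀ P, PSS (S : Subgroup G) P → FFMod (S : Subgroup G) P)
    (hV : ∀ P, PSS (S : Subgroup G) P → zl (S : Subgroup G) P ≤ VB (S : Subgroup G)) :
    lim (S : Subgroup G) ≤ K0 (S : Subgroup G) := by
  obtain ⟨P, hP, hPn⟩ := h.ex
  refine le_K0 (wc_lim S) fun R hR => ?_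
  exact (zl_le_VB_iff h.ctx.char2 hR).1
    (ThmB.Limit.zl_le_VB_hypC h hP hPn (hff P ⟨hP, hPn⟩) (fun Q h1 h2 => hV Q ⟨h1, h2⟩) R hR)

/-- **The case (L)**: `Ω₁(Z(K₀)) = V_P`, `P ∈ P**`; all levels lie in `K₀` (`lim_le_K0`). -/
structure CaseL (S : Sylow 2 G) (P : Subgroup G) : Prop extends HypC S where
  ff : ∀ P : Subgroup G, PSS (S : Subgroup G) P → FFMod (S : Subgroup G) P
  pss : PSS (S : Subgroup G) P
  eq : X0 (S : Subgroup G) = zl (S : Subgroup G) P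
  limK : lim (S : Subgroup G) ≤ K0 (S : Subgroup G)

/-- **(L)** -/
theorem exists_caseL (h : HypC S) (hff : ∀ P, PSS (S : Subgroup G) P → FFMod (S : Subgroup G) P)
    (hV : ∀ P, PSS (S : Subgroup G) P → zl (S : Subgroup G) P ≤ VB (S : Subgroup G))
    (hn : ¬ nxt (S : Subgroup G) (K0 (S : Subgroup G)) ≤ K0 (S : Subgroup G)) : ∃ P, CaseL S P := by
  have hG := h.ctx.char2
  have hty := ty_of_ff h hff
  have hj := jj_le_all h hty
  have h1 : ∃ A ∈ BO (S : Subgroup G) (K0 (S : Subgroup G)), ¬ A ≤ centralizer (X0 (S : Subgroup G) : Set G) := by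
    by_contra hcon
    push Not at hcon
    apply hn
    refine sup_le (cs_X0 hG hj).le (sSup_le fun A hA => ?_)
    rw [← cs_X0 hG hj]
    exact le_inf hA.1 (hcon A hA)
  obtain ⟨A, hA, hne⟩ := h1
  have hoff : OffM (X0 (S : Subgroup G)) A := hA.2.offM le_rfl hne
  obtain ⟨P, hP, he⟩ := thmD h hty (X0_comm _) (X0_sq _) (M0_norm _) ((ZN.zc_le _).trans (K0_le _))
    (fun P hP => par_le hP) (Level.zc_le_X0 hj) (prin_M0 hG hj le_rfl) ⟨A, hA.1.trans (S_le_M0 _), hoff⟩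
  exact ⟨P, { toHypC := h, ff := hff, pss := hP, eq := he, limK := lim_le_K0 h hff hV }⟩

namespace CaseL

variable (h : CaseL S P)
include h

theorem ty : ∀ P, PSS (S : Subgroup G) P → ThmB.Main.Ty (S : Subgroup G) P := ty_of_ff h.toHypC h.ff

theorem hj : ∀ P, IsParS (S : Subgroup G) P → jj (S : Subgroup G) ≤ o2 P := jj_le_all h.toHypC h.ty

theorem lev : Lev (S : Subgroup G) (K0 (S : Subgroup G)) := lev_K0 h.hj

theorem K0_eq : K0 (S : Subgroup G) = o2 P := by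
  rw [← cs_X0 h.ctx.char2 h.hj, h.eq, IsParS.inf_centralizer S h.ctx.char2 h.pss.par]

/-- **(T6)** `Ω₁(Z(O₂(P))) = V_P` -/
theorem zc_eq : zc (o2 P) = zl (S : Subgroup G) P := by
  rw [← h.eq, X0, h.K0_eq]

/-- `O₂(P)` is weakly closed in `S`. -/
theorem wc : NO3b.Wc.WC (S : Subgroup G) (o2 P) := by
  rw [← h.K0_eq]; exact wc_K0 _

theorem levQ : Lev (S : Subgroup G) (o2 P) := by
  rw [← h.K0_eq]; exact h.lev

theorem M0_eq : M0 (S : Subgroup G) = normalizer (o2 P : Set G) := by rw [M0, h.K0_eq]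

/-- `N_G(O₂(P)) ≤ N_G(V_P)` -/
theorem norm_o2_le : normalizer (o2 P : Set G) ≤ normalizer (zl (S : Subgroup G) P : Set G) := by
  rw [← h.eq, ← h.M0_eq]
  exact M0_norm _

/-- `N_G(T) ≤ N_G(V_P)` for `O₂(P) ≤ T ≤ S` -/
theorem norm_le {T : Subgroup G} (h1 : o2 P ≤ T) (h2 : T ≤ (S : Subgroup G)) :
    normalizer (T : Set G) ≤ normalizer (zl (S : Subgroup G) P : Set G) :=
  (WC.norm_le h.wc h1 h2).trans h.norm_o2_le

/-- All members of `P*(S)` normalise `V_P`. -/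
theorem par_le {R : Subgroup G} (hR : IsParS (S : Subgroup G) R) :
    R ≤ normalizer (zl (S : Subgroup G) P : Set G) := by
  rw [← h.eq]
  exact (Level.par_le hR).trans (M0_norm _)

/-- All levels lie in `O₂(P)`. -/
theorem lim_le : lim (S : Subgroup G) ≤ o2 P := by
  rw [← h.K0_eq]; exact h.limK

theorem zl_le_line {R : Subgroup G} (hR : IsParS (S : Subgroup G) R) : zl (S : Subgroup G) R ≤ zl (S : Subgroup G) P :=
  ZN.zl_le ZN.zc_le_zl (h.par_le hR)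

/-- `O₂(P) ≤ O₂(R)` for all `R ∈ P*(S)` -/
theorem o2_le {R : Subgroup G} (hR : IsParS (S : Subgroup G) R) : o2 P ≤ o2 R := by
  rw [← h.K0_eq]; exact K0_le_o2 hR

theorem hypN : HypN S P := h.toHypC.hypN h.pss.par h.pss.nonLoc

theorem hypF : HypF S P := { toHypN := h.hypN, four := fun R hR => h.four R hR.par hR.nonLoc }

end CaseL

/-- **THE CUT OF GammaFF**, second form. -/
theorem cut' (h : HypC S) (hff : ∀ P, PSS (S : Subgroup G) P → FFMod (S : Subgroup G) P)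
    (hV : ∀ P, PSS (S : Subgroup G) P → zl (S : Subgroup G) P ≤ VB (S : Subgroup G)) :
    (∃ P, CaseL S P) ∨
    HypG S (MZ (S : Subgroup G)) ∨
    (∃ P F, WSt S P F ∧ ((∃ R, PSS (S : Subgroup G) R ∧
        zl (S : Subgroup G) (MZ (S : Subgroup G)) = zl (S : Subgroup G) R) ∨
      (¬ FFMod (S : Subgroup G) (MZ (S : Subgroup G)) ∧
        ¬ zl (S : Subgroup G) (MZ (S : Subgroup G)) ≤ o2 (CZ (S : Subgroup G))))) ∨
    (W0 S ∧ NFRoot (S : Subgroup G) (M0 (S : Subgroup G)) ∧ ∃ R, PSS (S : Subgroup G) R ∧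
      zl (S : Subgroup G) (MZ (S : Subgroup G)) = zl (S : Subgroup G) R) ∨
    ∃ P, CaseG S P := by
  by_cases hn : nxt (S : Subgroup G) (K0 (S : Subgroup G)) ≤ K0 (S : Subgroup G)
  · exact Or.inr (cut_of_nxt h hff hn)
  · exact Or.inl (exists_caseL h hff hV hn)

end Cfsg.Agent.Omega.NO3S.Level

end
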