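import Cfsg.Agent.Mrg.Omega.SQ1.BauL
import Cfsg.Agent.Mrg.Omega.NO3S.OneLine.Abs
import Cfsg.Agent.Mrg.Omega.NO3S.ThmB.Best

section


/-!
# helper526's CLAIM (#16134) for a family of best offenders over a pair `(B, ZJ)`

* `Fm S Y H B ZJ AA` : `Y` elementary abelian, `AA` a family of best offenders of `S` on `Y` (contained in `B ≤ S`), closed
  under the local cut and under conjugation by `H` inside `S`; `ZJ = C_Y(AA) = C_Y(B)`;
* `Bl S Y H B ZJ AA L V` : a block `(L, V)` over `B`, `V ≤ Y`, `L ≤ H`;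
* `Bl.order` : for `A ∈ AA`, `A ≰ P = C_B(V)` and `V ≤ W ≤ Y`: `B = A P`, `C_W(A ∩ P) = V C_W(A)`, `A ∩ P ∈ AA`;
* `claim` : `C_B(V) ≠ C_B(V') ⇒ [V', B] ≤ C(L)`;
* `Bl.cY_P` : `C_Y(C_B(V)) = V ZJ`.
-/

set_option autoImplicit false
set_option linter.unusedSectionVars false

namespace Cfsg.Agent.Omega.NO3S.Level.Claim

open Subgroup Cfsg Cfsg.Agent.ZN Cfsg.Agent.ZN.ChoiceBase
open Cfsg.Agent.Omega.SQ1.Bau (mem_sup_comm card_sup_comm mem_sup_norm Mv not_mv_iff mv_inv exists_min)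
open Cfsg.Agent.Omega.NO3b.FPB.Base (cW mem_cW cW_le cW_anti cW_sup comm_iff)
open Cfsg.Agent.Omega.NO3b.FPB.Claim (mem_cj_iff conj_mem_cj conj_mem_cj_iff comm_conj comm_conj_iff comm_el
  conj_mem_of_norm conj_mem_of_norm' comm_drop comm_drop')
open Cfsg.Agent.Omega.NO3b.FPB.CaseTwo (norm_of_conj)
open Cfsg.Agent.Omega.NO3S.OneLine (card_cent_mul card_sup_norm)
open scoped Pointwise

universe u

variable {G : Type u} [Group G]

/-- A family of best offenders of `S` on `Y`, over the pair `(B, ZJ)`. -/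
structure Fm (S Y H B ZJ : Subgroup G) (AA : Set (Subgroup G)) : Prop where
  Yc : ∀ x ∈ Y, ∀ y ∈ Y, x * y = y * x
  BS : B ≤ S
  YB : Y ≤ B
  le : ∀ A ∈ AA, A ≤ B
  BZ : ∀ b ∈ B, ∀ z ∈ ZJ, b * z = z * b
  ZY : ZJ ≤ Y
  mZ : ∀ y ∈ Y, (∀ A ∈ AA, ∀ a ∈ A, a * y = y * a) → y ∈ ZJ
  cm : ∀ A ∈ AA, ∀ a ∈ A, ∀ b ∈ A, a * b * a⁻¹ * b⁻¹ ∈ centralizer (Y : Set G)
  best : ∀ A ∈ AA, ∀ E : Subgroup G, E ≤ A → A ⊓ centralizer (Y : Set G) ≤ E →
    Nat.card E * Nat.card (cW Y E) ≤ Nat.card A * Nat.card (cW Y A)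
  cut : ∀ A ∈ AA, ∀ E : Subgroup G, E ≤ A → A ⊓ centralizer (Y : Set G) ≤ E →
    Nat.card A * Nat.card (cW Y A) ≤ Nat.card E * Nat.card (cW Y E) → E ∈ AA
  conj : ∀ A ∈ AA, ∀ g ∈ H, cj g A ≤ S → cj g A ∈ AA

/-- `C_B(V)`. -/
def cB (B V : Subgroup G) : Subgroup G := B ⊓ centralizer (V : Set G)

theorem mem_cB {B V : Subgroup G} {x : G} : x ∈ cB B V ↔ x ∈ B ∧ ∀ v ∈ V, x * v = v * x := by
  rw [cB, mem_inf, mem_centralizer_iff]
  exact and_congr_right fun _ => ⟨fun h v hv => (h v hv).symm, fun h v hv => (h v hv).symm⟩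

theorem cB_le (B V : Subgroup G) : cB B V ≤ B := inf_le_left

theorem cB_cj (g : G) (B V : Subgroup G) : cB (cj g B) (cj g V) = cj g (cB B V) := by
  unfold cB
  rw [← cj_centralizer, ← cj_inf]

/-- A block `(L, V)` over `(B, ZJ)`. -/
structure Bl (S Y H B ZJ : Subgroup G) (AA : Set (Subgroup G)) (L V : Subgroup G) : Prop where
  BL : B ≤ L
  LH : L ≤ H
  LY : L ≤ normalizer (Y : Set G)
  LV : L ≤ normalizer (V : Set G)
  LP : L ≤ normalizer (cB B V : Set G)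
  VY : V ≤ Y
  quad : ∀ b ∈ B, ∀ v ∈ V, b * v * b⁻¹ * v⁻¹ ∈ ZJ
  cent : ∀ b ∈ B, b ∉ cB B V → ∀ v ∈ V, b * v = v * b → v ∈ ZJ
  card : Nat.card B * Nat.card ↥(V ⊓ ZJ) ≤ Nat.card (cB B V) * Nat.card V
  off : ∃ A ∈ AA, ¬ A ≤ cB B V
  gen : ∀ x ∈ L, Mv (V ⊓ ZJ) x → ∀ X : Subgroup G, B ≤ X → cj x B ≤ X → L ≤ X
  split : ∀ z ∈ ZJ, ∃ a ∈ V ⊓ ZJ, ∃ c ∈ ZJ, (∀ l ∈ L, l * c = c * l) ∧ z = a * c
  mv : ∀ x ∈ L, Mv (V ⊓ ZJ) x → ∀ e ∈ B, e ∉ cB B V → Mv (V ⊓ ZJ) (x * e * x⁻¹)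
  faith : ∀ v ∈ V, ∀ b ∈ B, (∀ l ∈ L, l * (b * v * b⁻¹ * v⁻¹) = b * v * b⁻¹ * v⁻¹ * l) →
    b * v = v * b
  ne : ∃ x ∈ L, Mv (V ⊓ ZJ) x

/-! ### The order argument -/

/-- `E ≤ A` with `C_A(W) ≤ E` and `|E| |C_W(E)| = |A| |C_W(A)|`. -/
def BB (W A E : Subgroup G) : Prop :=
  E ≤ A ∧ A ⊓ centralizer (W : Set G) ≤ E ∧ Nat.card A * Nat.card (cW W A) = Nat.card E * Nat.card (cW W E)

theorem BB.self (W A : Subgroup G) : BB W A A := ⟨le_rfl, inf_le_left, rfl⟩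

theorem card_W_mul [Finite G] {Y W A E : Subgroup G} (hY : ∀ x ∈ Y, ∀ y ∈ Y, x * y = y * x) (hWY : W ≤ Y)
    (hE : E ≤ A) : Nat.card (cW W E) * Nat.card (cW Y A) ≤ Nat.card (cW Y E) * Nat.card (cW W A) :=
  card_cent_mul hY hWY hE

namespace Fm

variable {S Y H B ZJ W A E F : Subgroup G} {AA : Set (Subgroup G)} (h : Fm S Y H B ZJ AA)

include h

theorem bestW [Finite G] (hWY : W ≤ Y) (hA : A ∈ AA) (hE : E ≤ A) (hc : A ⊓ centralizer (W : Set G) ≤ E) :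
    Nat.card E * Nat.card (cW W E) ≤ Nat.card A * Nat.card (cW W A) := by
  have h1 := h.best A hA E hE ((inf_le_inf_left _ (centralizer_le hWY)).trans hc)
  have h2 := card_W_mul h.Yc hWY hE
  have hp : 0 < Nat.card (cW Y A) := Nat.card_pos
  refine Nat.le_of_mul_le_mul_right ?_ hp
  calc Nat.card E * Nat.card (cW W E) * Nat.card (cW Y A)
      = Nat.card E * (Nat.card (cW W E) * Nat.card (cW Y A)) := by ring
    _ ≤ Nat.card E * (Nat.card (cW Y E) * Nat.card (cW W A)) := Nat.mul_le_mul_left _ h2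
    _ = (Nat.card E * Nat.card (cW Y E)) * Nat.card (cW W A) := by ring
    _ ≤ (Nat.card A * Nat.card (cW Y A)) * Nat.card (cW W A) := Nat.mul_le_mul_right _ h1
    _ = _ := by ring

theorem cutW [Finite G] (hWY : W ≤ Y) (hA : A ∈ AA) (hE : BB W A E) : E ∈ AA := by
  obtain ⟨h1, h2, h3⟩ := hE
  refine h.cut A hA E h1 ((inf_le_inf_left _ (centralizer_le hWY)).trans h2) ?_
  have h4 := card_W_mul h.Yc hWY h1
  have hp : 0 < Nat.card (cW W A) := Nat.card_pos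
  refine Nat.le_of_mul_le_mul_right ?_ hp
  calc Nat.card A * Nat.card (cW Y A) * Nat.card (cW W A)
      = (Nat.card A * Nat.card (cW W A)) * Nat.card (cW Y A) := by ring
    _ = Nat.card E * (Nat.card (cW W E) * Nat.card (cW Y A)) := by rw [h3]; ring
    _ ≤ Nat.card E * (Nat.card (cW Y E) * Nat.card (cW W A)) := Nat.mul_le_mul_left _ h4
    _ = _ := by ring

theorem norm_of_le (hWY : W ≤ Y) (hA : A ∈ AA) (hE : BB W A E) : A ≤ normalizer (E : Set G) := by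
  intro a ha
  have key : ∀ x ∈ A, ∀ e ∈ E, x * e * x⁻¹ ∈ E := by
    intro x hx e he
    have h1 := h.cm A hA x hx e (hE.1 he)
    have h2 : x * e * x⁻¹ * e⁻¹ ∈ E := by
      have h0 : x * e * x⁻¹ * e⁻¹ ∈ A := mul_mem (mul_mem (mul_mem hx (hE.1 he)) (inv_mem hx)) (inv_mem (hE.1 he))
      exact hE.2.1 (mem_inf.2 ⟨h0, centralizer_le hWY h1⟩)
    have h3 := mul_mem h2 he
    rwa [inv_mul_cancel_right] at h3
  rw [mem_normalizer_iff]
  intro e
  refine ⟨fun he => key a ha e he, fun he => ?_⟩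
  have h1 := key a⁻¹ (inv_mem ha) _ he
  have e1 : a⁻¹ * (a * e * a⁻¹) * a⁻¹⁻¹ = e := by group
  rwa [e1] at h1

theorem infBB [Finite G] (hWY : W ≤ Y) (hA : A ∈ AA) (hE : BB W A E) (hF : BB W A F) : BB W A (E ⊓ F) := by
  refine ⟨inf_le_left.trans hE.1, le_inf hE.2.1 hF.2.1, le_antisymm ?_ ?_⟩
  · have h1 : Nat.card ↥(E ⊔ F) * Nat.card ↥(E ⊓ F) = Nat.card E * Nat.card F :=
      card_sup_norm (hE.1.trans (h.norm_of_le hWY hA hF))
    have h2 : Nat.card ↥(cW W E ⊔ cW W F) * Nat.card ↥(cW W E ⊓ cW W F) =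
        Nat.card (cW W E) * Nat.card (cW W F) :=
      card_sup_comm fun a ha b hb => h.Yc a (hWY (cW_le W E ha)) b (hWY (cW_le W F hb))
    have h3 : Nat.card ↥(cW W E ⊔ cW W F) ≤ Nat.card (cW W (E ⊓ F)) :=
      Subgroup.card_le_of_le (sup_le (cW_anti W inf_le_left) (cW_anti W inf_le_right))
    rw [← cW_sup] at h2
    have h4 := h.bestW hWY hA (sup_le hE.1 hF.1) (hE.2.1.trans le_sup_left)
    set m := Nat.card A * Nat.card (cW W A) with hm
    have hmpos : 0 < m := Nat.mul_pos Nat.card_pos Nat.card_pos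
    refine Nat.le_of_mul_le_mul_right ?_ hmpos
    calc m * m = (Nat.card E * Nat.card (cW W E)) * (Nat.card F * Nat.card (cW W F)) := by
          rw [← hE.2.2, ← hF.2.2]
      _ = (Nat.card E * Nat.card F) * (Nat.card (cW W E) * Nat.card (cW W F)) := by ring
      _ = (Nat.card ↥(E ⊔ F) * Nat.card ↥(E ⊓ F)) *
          (Nat.card ↥(cW W E ⊔ cW W F) * Nat.card (cW W (E ⊔ F))) := by rw [h1, h2]
      _ = (Nat.card ↥(E ⊓ F) * Nat.card ↥(cW W E ⊔ cW W F)) *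
          (Nat.card ↥(E ⊔ F) * Nat.card (cW W (E ⊔ F))) := by ring
      _ ≤ (Nat.card ↥(E ⊓ F) * Nat.card (cW W (E ⊓ F))) * m :=
          Nat.mul_le_mul (Nat.mul_le_mul_left _ h3) h4
  · exact h.bestW hWY hA (inf_le_left.trans hE.1) (le_inf hE.2.1 hF.2.1)

end Fm

namespace Bl

variable {S Y H B ZJ W A L V : Subgroup G} {AA : Set (Subgroup G)} (f : Fm S Y H B ZJ AA)
  (k : Bl S Y H B ZJ AA L V)

theorem P_cent {p v : G} (hp : p ∈ cB B V) (hv : v ∈ V) : p * v = v * p := (mem_cB.1 hp).2 v hv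

include f k

/-- The main order argument. -/
theorem order [Finite G] (hVW : V ≤ W) (hWY : W ≤ Y) (hE : A ∈ AA) (hEP : ¬ A ≤ cB B V) :
    Nat.card A * Nat.card ↥(V ⊓ ZJ) = Nat.card ↥(A ⊓ cB B V) * Nat.card V ∧
    (∀ b ∈ B, ∃ e ∈ A, ∃ p ∈ cB B V, b = e * p) ∧
    cW W (A ⊓ cB B V) = V ⊔ cW W A ∧ BB W A (A ⊓ cB B V) := by
  have hEB : A ≤ B := f.le A hE
  have hcF : A ⊓ centralizer (W : Set G) ≤ A ⊓ cB B V := by
    rintro x ⟨h1, h2⟩
    exact ⟨h1, hEB h1, centralizer_le hVW h2⟩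
  set F := A ⊓ cB B V with hF
  have hFE : F ≤ A := inf_le_left
  have h1 : Nat.card F * Nat.card (cW W F) ≤ Nat.card A * Nat.card (cW W A) := f.bestW hWY hE hFE hcF
  -- `C_V(A) ≤ line`
  obtain ⟨b, hb, hbP⟩ := SetLike.not_le_iff_exists.1 hEP
  have hVE : V ⊓ cW W A ≤ V ⊓ ZJ := by
    rintro v ⟨hv, hv2⟩
    exact ⟨hv, k.cent b (hEB hb) hbP v hv ((mem_cW.1 hv2).2 b hb)⟩
  have h2 : V ⊔ cW W A ≤ cW W F := by
    refine sup_le (fun v hv => mem_cW.2 ⟨hVW hv, fun e he => ?_⟩) (cW_anti W hFE)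
    exact P_cent (mem_inf.1 he).2 hv
  have h3 : Nat.card ↥(V ⊔ cW W A) * Nat.card ↥(V ⊓ cW W A) = Nat.card V * Nat.card (cW W A) :=
    card_sup_comm fun a ha c hc => f.Yc a (hWY (hVW ha)) c (hWY (cW_le W A hc))
  -- `|A| / |F| ≤ |B| / |P|`
  have h4 : Nat.card ((A : Set G) * ((cB B V : Subgroup G) : Set G) : Set G) ≤ Nat.card B := by
    refine Nat.card_mono (Set.toFinite _) ?_
    rintro _ ⟨e, he, p, hp, rfl⟩
    exact mul_mem (hEB he) (cB_le B V hp)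
  have h5 := Cfsg.Agent.Lib.ProductSet.card_mul_card_inf A (cB B V)
  rw [← hF] at h5
  -- the numbers
  have pF : 0 < Nat.card F := Nat.card_pos
  have pV : 0 < Nat.card V := Nat.card_pos
  have pP : 0 < Nat.card (cB B V) := Nat.card_pos
  have pE : 0 < Nat.card A := Nat.card_pos
  have pL : 0 < Nat.card ↥(V ⊓ ZJ) := Nat.card_pos
  have pc : 0 < Nat.card (cW W A) := Nat.card_pos
  have hcB := k.card
  set cE := Nat.card A
  set cF := Nat.card F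
  set cV := Nat.card V
  set cP := Nat.card (cB B V)
  set cBB := Nat.card B
  set cl := Nat.card ↥(V ⊓ ZJ)
  set cC := Nat.card (cW W A)
  set cD := Nat.card (cW W F)
  set cEP := Nat.card ((A : Set G) * ((cB B V : Subgroup G) : Set G) : Set G)
  set cU := Nat.card ↥(V ⊔ cW W A)
  set cI := Nat.card ↥(V ⊓ cW W A)
  have hI : cI ≤ cl := Subgroup.card_le_of_le hVE
  have hU : cU ≤ cD := Subgroup.card_le_of_le h2
  -- (a) `cE * cl ≤ cF * cV`
  have ha : cE * cl ≤ cF * cV := by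
    refine Nat.le_of_mul_le_mul_right ?_ pP
    calc cE * cl * cP = (cE * cP) * cl := by ring
      _ = cEP * cF * cl := by rw [← h5]
      _ ≤ cBB * cF * cl := Nat.mul_le_mul_right _ (Nat.mul_le_mul_right _ h4)
      _ = cF * (cBB * cl) := by ring
      _ ≤ cF * (cP * cV) := Nat.mul_le_mul_left _ hcB
      _ = cF * cV * cP := by ring
  -- (b) `cF * cV ≤ cE * cl`
  have hb1 : cF * (cV * cC) ≤ cE * cl * cC := by
    calc cF * (cV * cC) = cF * (cU * cI) := by rw [h3]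
      _ ≤ cF * (cD * cl) := Nat.mul_le_mul_left _ (Nat.mul_le_mul hU hI)
      _ = (cF * cD) * cl := by ring
      _ ≤ (cE * cC) * cl := Nat.mul_le_mul_right _ h1
      _ = cE * cl * cC := by ring
  have hb : cF * cV ≤ cE * cl := Nat.le_of_mul_le_mul_right (by rw [mul_assoc]; exact hb1) pc
  have hab : cE * cl = cF * cV := le_antisymm ha hb
  -- equalities everywhere
  have e1 : cF * (cU * cI) = (cE * cC) * cl := by
    rw [h3]
    calc cF * (cV * cC) = cF * cV * cC := by ring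
      _ = cE * cl * cC := by rw [hab]
      _ = _ := by ring
  have e2 : cF * cD * cl ≤ cF * (cU * cI) := by
    rw [e1]
    exact Nat.mul_le_mul_right _ h1
  have e3 : cD ≤ cU := by
    have h6 : cF * cD * cl ≤ cF * cU * cl := by
      refine e2.trans ?_
      rw [← mul_assoc]
      exact Nat.mul_le_mul_left _ hI
    have h7 := Nat.le_of_mul_le_mul_right h6 pL
    exact Nat.le_of_mul_le_mul_left h7 pF
  have e4 : V ⊔ cW W A = cW W F := Subgroup.eq_of_le_of_card_ge h2 e3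
  have e5 : cE * cC = cF * cD := by
    apply le_antisymm _ h1
    have h6 : (cE * cC) * cl ≤ (cF * cD) * cl := by
      rw [← e1]
      calc cF * (cU * cI) ≤ cF * (cD * cl) := Nat.mul_le_mul_left _ (Nat.mul_le_mul hU hI)
        _ = _ := by ring
    exact Nat.le_of_mul_le_mul_right h6 pL
  have e6 : cBB ≤ cEP := by
    have h6 : cBB * (cF * cl) ≤ cEP * (cF * cl) := by
      calc cBB * (cF * cl) = cF * (cBB * cl) := by ring
        _ ≤ cF * (cP * cV) := Nat.mul_le_mul_left _ hcB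
        _ = (cF * cV) * cP := by ring
        _ = (cE * cl) * cP := by rw [hab]
        _ = (cE * cP) * cl := by ring
        _ = cEP * cF * cl := by rw [← h5]
        _ = cEP * (cF * cl) := by ring
    exact Nat.le_of_mul_le_mul_right h6 (Nat.mul_pos pF pL)
  refine ⟨hab, ?_, e4.symm, hFE, hcF, e5⟩
  have h8 : (A : Set G) * ((cB B V : Subgroup G) : Set G) = (B : Set G) := by
    refine Set.eq_of_subset_of_ncard_le ?_ ?_ (Set.toFinite _)
    · rintro _ ⟨e, he, p, hp, rfl⟩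
      exact mul_mem (hEB he) (cB_le B V hp)
    · rw [← Nat.card_coe_set_eq, ← Nat.card_coe_set_eq]
      exact e6
  intro b hb
  have h9 : b ∈ (A : Set G) * ((cB B V : Subgroup G) : Set G) := by rw [h8]; exact hb
  obtain ⟨e, he, p, hp, rfl⟩ := h9
  exact ⟨e, he, p, hp, rfl⟩

/-- `C_Y(C_B(V)) = V ZJ`. -/
theorem cY_P [Finite G] : ∀ y ∈ Y, (∀ p ∈ cB B V, p * y = y * p) → ∃ v ∈ V, ∃ z ∈ ZJ, y = v * z := by
  obtain ⟨A, hA, hAP⟩ := k.off
  obtain ⟨-, h2, h3, -⟩ := k.order f k.VY le_rfl hA hAP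
  intro y hy hyP
  have h4 : y ∈ V ⊔ cW Y A := by
    rw [← h3]; exact mem_cW.2 ⟨hy, fun e he => hyP e (mem_inf.1 he).2⟩
  obtain ⟨v1, hv1, c, hc, rfl⟩ := mem_sup_comm (fun a ha b hb => f.Yc a (k.VY ha) b (cW_le Y A hb)) h4
  have hcY := cW_le Y A hc
  refine ⟨v1, hv1, c, f.mZ c hcY fun A' hA' e he => ?_, rfl⟩
  obtain ⟨a, ha, p, hp, rfl⟩ := h2 e (f.le A' hA' he)
  have hpc : p * c = c * p := by
    have h5 := hyP p hp
    have h6 : p * v1 = v1 * p := P_cent hp hv1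
    have h7 : p * (v1 * c) = v1 * (p * c) := by rw [← mul_assoc, h6]; group
    rw [h7, mul_assoc v1 c p] at h5
    exact mul_left_cancel h5
  have hac := (mem_cW.1 hc).2 a ha
  calc a * p * c = a * (p * c) := by group
    _ = (a * c) * p := by rw [hpc]; group
    _ = c * (a * p) := by rw [hac]; group

/-- `ZJ ⊓ ZJ^x ≤ C(L)`. -/
theorem inter {x z : G} (hx : x ∈ L) (hm : Mv (V ⊓ ZJ) x) (hz : z ∈ ZJ) (hz' : x⁻¹ * z * x ∈ ZJ) :
    z ∈ centralizer (L : Set G) := by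
  have h1 : L ≤ centralizer ({z} : Set G) := by
    refine k.gen x hx hm _ (fun b hb => mem_centralizer_iff.2 fun y hy => ?_) ?_
    · rw [show y = z from hy]
      exact (f.BZ b hb z hz).symm
    · intro b hb
      obtain ⟨b, hb0, rfl⟩ := mem_cj_iff.1 hb
      rw [mem_centralizer_iff]
      intro y hy
      rw [show y = z from hy]
      have h2 := (f.BZ b hb0 _ hz').symm
      have h3 := comm_conj (g := x) h2
      have e : x * (x⁻¹ * z * x) * x⁻¹ = z := by group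
      rwa [e] at h3
  rw [mem_centralizer_iff]
  intro l hl
  exact (mem_centralizer_iff.1 (h1 hl) z rfl).symm

theorem conj_mem {A' : Subgroup G} (hA : A' ∈ AA) (hP : A' ≤ cB B V) {x : G} (hx : x ∈ L) : cj x A' ∈ AA := by
  refine f.conj A' hA x (k.LH hx) ?_
  rintro _ ⟨a, ha, rfl⟩
  exact f.BS (cB_le B V (conj_mem_of_norm k.LP hx (hP ha)))

end Bl

section

variable {S Y H B ZJ W A E L L' V V' : Subgroup G} {AA : Set (Subgroup G)}

/-- CLAIM, case (i). -/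
theorem case_i [Finite G] (f : Fm S Y H B ZJ AA) (k : Bl S Y H B ZJ AA L V) (k' : Bl S Y H B ZJ AA L' V')
    (hWY : W ≤ Y) (hVW' : ∀ y ∈ L, cj y V' ≤ W)
    (hWmin : ∀ X : Subgroup G, V ≤ X → (∀ y ∈ L, cj y V' ≤ X) → W ≤ X)
    (hWn : L ≤ normalizer (W : Set G)) (hA : A ∈ AA) (hAP : ¬ A ≤ cB B V) (hE0 : BB W A (A ⊓ cB B V))
    {x : G} (hx : x ∈ L) (hm : Mv (V ⊓ ZJ) x) (hnle : ¬ A ⊓ cB B V ≤ cj x (cB B V')) :
    ∀ b ∈ B, ∀ v ∈ V', b * v * b⁻¹ * v⁻¹ ∈ centralizer (L : Set G) := by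
  have hYn : ∀ y ∈ L, cj y Y = Y := fun y hy => cj_eq_of_mem_normalizer (k.LY hy)
  have hWj : ∀ y ∈ L, cj y W = W := fun y hy => cj_eq_of_mem_normalizer (hWn hy)
  have hcb : ∀ y ∈ L, ∀ p ∈ cB B V, p ∈ cj y B := fun y hy p hp =>
    mem_cj.2 (cB_le B V (conj_mem_of_norm' k.LP hy hp))
  have hV'W : V' ≤ W := by
    have := hVW' 1 (one_mem L)
    rwa [cj_one] at this
  -- the minimal `D`
  obtain ⟨D, ⟨hD1, hD2, hD3⟩, -, hDmin⟩ := exists_min
    (fun D : Subgroup G => BB W A D ∧ D ≤ A ⊓ cB B V ∧ ¬ D ≤ cj x (cB B V'))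
    (X := A ⊓ cB B V) ⟨hE0, le_rfl, hnle⟩
  have hDP : D ≤ cB B V := hD2.trans inf_le_right
  have hDA : D ∈ AA := f.cutW hWY hA hD1
  have hord : ∀ y ∈ L, ¬ D ≤ cj y (cB B V') →
      Nat.card D * Nat.card ↥(V' ⊓ ZJ) = Nat.card ↥(D ⊓ cj y (cB B V')) * Nat.card V' ∧
      (∀ b ∈ cj y B, ∃ e ∈ D, ∃ p ∈ cj y (cB B V'), b = e * p) ∧
      cW W (D ⊓ cj y (cB B V')) = cj y V' ⊔ cW W D ∧ BB W A (D ⊓ cj y (cB B V')) := by
    intro y hy hny
    have hyi := inv_mem hy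
    have hD' : cj y⁻¹ D ∈ AA := k.conj_mem f hDA hDP hyi
    have hny' : ¬ cj y⁻¹ D ≤ cB B V' := fun h1 => hny (by
      have h2 := cj_mono y h1
      rwa [cj_cj_inv] at h2)
    obtain ⟨h1, h2, h3, h4⟩ := k'.order f hV'W hWY hD' hny'
    have e0 : cj y⁻¹ D ⊓ cB B V' = cj y⁻¹ (D ⊓ cj y (cB B V')) := by
      rw [cj_inf, cj_inv_cj]
    rw [e0] at h1 h3 h4
    rw [card_cj, card_cj] at h1
    have ecW : ∀ X : Subgroup G, cW W (cj y⁻¹ X) = cj y⁻¹ (cW W X) := by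
      intro X
      unfold cW
      rw [cj_inf, cj_centralizer, hWj _ hyi]
    have h3' : cW W (D ⊓ cj y (cB B V')) = cj y V' ⊔ cW W D := by
      have h5 := congrArg (cj y) h3
      rw [ecW, ecW, cj_cj_inv] at h5
      rw [h5]
      show Subgroup.map _ _ = _
      rw [Subgroup.map_sup]
      have e1 : Subgroup.map (MulAut.conj y).toMonoidHom (cj y⁻¹ (cW W D)) = cW W D := cj_cj_inv y _
      rw [e1]
    refine ⟨h1, ?_, h3', inf_le_left.trans hD1.1, ?_, ?_⟩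
    · intro b hb
      obtain ⟨b, hb0, rfl⟩ := mem_cj_iff.1 hb
      obtain ⟨e, he, p, hp, rfl⟩ := h2 b hb0
      rw [mem_cj, inv_inv] at he
      exact ⟨_, he, _, conj_mem_cj hp, by group⟩
    · rintro c ⟨hc1, hc2⟩
      have hcD : c ∈ D := hD1.2.1 ⟨hc1, hc2⟩
      refine ⟨hcD, mem_cj.2 (mem_cB.2 ⟨mem_cj.1 (hcb y hy c (hDP hcD)), fun v hv => ?_⟩)⟩
      have h5 := mem_centralizer_iff.1 hc2 _ (hVW' y hy (conj_mem_cj hv))
      have h6 := comm_conj (g := y⁻¹) h5.symm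
      have e1 : y⁻¹ * c * y⁻¹⁻¹ = y⁻¹ * c * y := by rw [inv_inv]
      have e2 : y⁻¹ * (y * v * y⁻¹) * y⁻¹⁻¹ = v := by group
      rwa [e1, e2] at h6
    · rw [hD1.2.2]
      have h5 := h4.2.2
      rw [ecW, ecW, card_cj, card_cj, card_cj, card_cj] at h5
      exact h5
  have hposV : 0 < Nat.card V' := Nat.card_pos
  -- `D ⊓ P₂^x` centralises `W`
  have hcent : W ≤ centralizer ((D ⊓ cj x (cB B V') : Subgroup G) : Set G) := by
    refine hWmin _ (fun v hv => mem_centralizer_iff.2 fun d hd => ?_) (fun y hy v hv =>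
      mem_centralizer_iff.2 fun d hd => ?_)
    · exact Bl.P_cent (hDP (mem_inf.1 hd).1) hv
    · have hdy : d ∈ cj y (cB B V') := by
        by_cases hny : D ≤ cj y (cB B V')
        · exact hny (mem_inf.1 hd).1
        · obtain ⟨h1, -, -, h4⟩ := hord y hy hny
          obtain ⟨h1', -, -, -⟩ := hord x hx hD3
          have h5 : D ⊓ cj y (cB B V') ≤ cj x (cB B V') := by
            by_contra hcon
            have h6 := hDmin (D ⊓ cj y (cB B V')) ⟨h4, inf_le_left.trans hD2, hcon⟩ inf_le_left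
            exact hny (h6.trans inf_le_right)
          have h6 : D ⊓ cj y (cB B V') = D ⊓ cj x (cB B V') := by
            refine Subgroup.eq_of_le_of_card_ge (le_inf inf_le_left h5) ?_
            have h7 : Nat.card ↥(D ⊓ cj x (cB B V')) * Nat.card V' =
                Nat.card ↥(D ⊓ cj y (cB B V')) * Nat.card V' := by rw [← h1, ← h1']
            exact (Nat.eq_of_mul_eq_mul_right hposV h7).le
          rw [← h6] at hd
          exact (mem_inf.1 hd).2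
      obtain ⟨d', hd', rfl⟩ := mem_cj_iff.1 hdy
      obtain ⟨v', hv', rfl⟩ := mem_cj_iff.1 hv
      exact comm_conj (Bl.P_cent hd' hv')
  obtain ⟨-, hD4, hD5, -⟩ := hord x hx hD3
  have hWdec : ∀ w ∈ W, ∃ v ∈ cj x V', ∃ c ∈ cW W D, w = v * c := by
    intro w hw
    have h1 : w ∈ cW W (D ⊓ cj x (cB B V')) :=
      mem_cW.2 ⟨hw, fun e he => mem_centralizer_iff.1 (hcent hw) e he⟩
    rw [hD5] at h1
    exact mem_sup_comm (fun a ha c hc => f.Yc a (hWY (hVW' x hx ha)) c (hWY (cW_le W D hc))) h1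
  -- the elements `d v d⁻¹ v⁻¹`
  obtain ⟨e, he, heP⟩ := SetLike.not_le_iff_exists.1 hAP
  have heB : e ∈ B := f.le A hA he
  have heL : e ∈ L := k.BL heB
  have hzj : ∀ d ∈ D, ∀ v ∈ cj x V', d * v * d⁻¹ * v⁻¹ ∈ cj x ZJ := by
    intro d hd v hv
    obtain ⟨d', hd', rfl⟩ := mem_cj_iff.1 (hcb x hx d (hDP hd))
    obtain ⟨v', hv', rfl⟩ := mem_cj_iff.1 hv
    rw [comm_el]
    exact conj_mem_cj (k'.quad d' hd' v' hv')
  have key : ∀ d ∈ D, ∀ v ∈ cj x V', d * v * d⁻¹ * v⁻¹ ∈ centralizer (L : Set G) := by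
    intro d hd v hv
    have hz := hzj d hd v hv
    have hvW : v ∈ W := hVW' x hx hv
    -- the conjugate by `e`
    have hdA : d ∈ A := (hD2 hd).1
    have hw : e * v * e⁻¹ ∈ W := conj_mem_of_norm hWn heL hvW
    obtain ⟨v', hv', c', hc', e1⟩ := hWdec _ hw
    have hdc : d * c' = c' * d := (mem_cW.1 hc').2 d hd
    have hze : e * (d * v * d⁻¹ * v⁻¹) * e⁻¹ = d * v' * d⁻¹ * v'⁻¹ := by
      have e2 : e * (d * v * d⁻¹ * v⁻¹) * e⁻¹ =
          (e * d * e⁻¹) * (e * v * e⁻¹) * (e * d * e⁻¹)⁻¹ * (e * v * e⁻¹)⁻¹ := by group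
      -- `e d e⁻¹ = (e d e⁻¹ d⁻¹) d`, the first factor centralises `Y`
      have hcY : e * d * e⁻¹ * d⁻¹ ∈ centralizer (Y : Set G) := f.cm A hA e he d hdA
      set u := e * v * e⁻¹ with hu
      have huY : u ∈ Y := hWY hw
      have hduY : d * u * d⁻¹ ∈ Y := conj_mem_of_norm k.LY (k.BL (f.le A hA hdA)) huY
      have e3 : e * d * e⁻¹ * u * (e * d * e⁻¹)⁻¹ = d * u * d⁻¹ := by
        have e4 : e * d * e⁻¹ * u * (e * d * e⁻¹)⁻¹ =
            (e * d * e⁻¹ * d⁻¹) * (d * u * d⁻¹) * (e * d * e⁻¹ * d⁻¹)⁻¹ := by group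
        rw [e4, ← mem_centralizer_iff.1 hcY _ hduY, mul_inv_cancel_right]
      rw [e2, e3, e1, comm_drop hdc]
    have hz' : e * (d * v * d⁻¹ * v⁻¹) * e⁻¹ ∈ cj x ZJ := by
      rw [hze]; exact hzj d hd v' hv'
    set z := d * v * d⁻¹ * v⁻¹ with hzdef
    -- split `z`
    obtain ⟨z0, hz0, ez⟩ := mem_cj_iff.1 hz
    obtain ⟨a, ha, c, hc, hlc, rfl⟩ := k.split z0 hz0
    have hxc : x * c * x⁻¹ = c := by rw [hlc x hx]; group
    have ez2 : z = (x * a * x⁻¹) * c := by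
      rw [ez]
      calc x * (a * c) * x⁻¹ = (x * a * x⁻¹) * (x * c * x⁻¹) := by group
        _ = _ := by rw [hxc]
    set z1 := x * a * x⁻¹ with hz1
    have hec : e * c * e⁻¹ = c := by rw [hlc e heL]; group
    have ez3 : e * z * e⁻¹ = (e * z1 * e⁻¹) * c := by
      rw [ez2]
      calc e * (z1 * c) * e⁻¹ = (e * z1 * e⁻¹) * (e * c * e⁻¹) := by group
        _ = _ := by rw [hec]
    have hcz : c ∈ cj x ZJ := mem_cj_iff.2 ⟨c, hc, hxc.symm⟩
    have hz1' : e * z1 * e⁻¹ ∈ cj x ZJ := by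
      rw [ez3] at hz'
      have := mul_mem hz' (inv_mem hcz)
      rwa [mul_inv_cancel_right] at this
    -- `t = x⁻¹ (e z1 e⁻¹) x`
    have hcen : x⁻¹ * (e * z1 * e⁻¹) * x ∈ centralizer (L : Set G) := by
      have hmx : Mv (V ⊓ ZJ) x⁻¹ := mv_inv.2 hm
      have hmv := k.mv x⁻¹ (inv_mem hx) hmx e heB heP
      have hyL : x⁻¹ * e * x⁻¹⁻¹ ∈ L := mul_mem (mul_mem (inv_mem hx) heL) (inv_mem (inv_mem hx))
      refine k.inter f hyL hmv (mem_cj.1 hz1') ?_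
      have e4 : (x⁻¹ * e * x⁻¹⁻¹)⁻¹ * (x⁻¹ * (e * z1 * e⁻¹) * x) * (x⁻¹ * e * x⁻¹⁻¹) = a := by
        rw [hz1]; group
      rw [e4]
      exact (mem_inf.1 ha).2
    have hLc : L ≤ normalizer (centralizer (L : Set G) : Set G) := by
      intro l hl
      rw [mem_normalizer_iff_cj, cj_centralizer]
      congr 1
      exact_mod_cast cj_eq_of_mem_normalizer (Subgroup.le_normalizer hl)
    have h8 : z1 ∈ centralizer (L : Set G) := by
      have h9 := conj_mem_of_norm hLc (mul_mem (inv_mem heL) hx) hcen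
      have e5 : e⁻¹ * x * (x⁻¹ * (e * z1 * e⁻¹) * x) * (e⁻¹ * x)⁻¹ = z1 := by group
      rwa [e5] at h9
    rw [ez2]
    refine mul_mem h8 (mem_centralizer_iff.2 fun l hl => hlc l hl)
  -- conclusion
  intro b hb v hv
  obtain ⟨d, hd, p, hp, e1⟩ := hD4 (x * b * x⁻¹) (conj_mem_cj hb)
  have hpv : p * (x * v * x⁻¹) = x * v * x⁻¹ * p := by
    obtain ⟨p', hp', rfl⟩ := mem_cj_iff.1 hp
    exact comm_conj (Bl.P_cent hp' hv)
  have h1 := key d hd (x * v * x⁻¹) (conj_mem_cj hv)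
  rw [← comm_drop' hpv, ← e1, comm_el] at h1
  rw [mem_centralizer_iff] at h1 ⊢
  intro l hl
  have h2 := h1 (x * l * x⁻¹) (mul_mem (mul_mem hx hl) (inv_mem hx))
  exact comm_conj_iff.1 h2

/-- Case (ii), first half: `[V₂, P₁] ≤ C(L₁)`. -/
theorem case_ii [Finite G] (f : Fm S Y H B ZJ AA) (k : Bl S Y H B ZJ AA L V) (k' : Bl S Y H B ZJ AA L' V')
    {F : Subgroup G} (hEB : E ≤ B) (hEP : ¬ E ≤ cB B V) (hEb : ∀ b ∈ B, ∃ e ∈ E, ∃ p ∈ cB B V, b = e * p)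
    (hF : ∀ c ∈ F, c ∈ Y ∧ ∀ e ∈ E, e * c = c * e)
    {x : G} (hx : x ∈ L) (hm : Mv (V ⊓ ZJ) x) (hxF : cj x V' ≤ V ⊔ F) :
    ∀ g ∈ cB B V, ∀ v ∈ V', g * v * g⁻¹ * v⁻¹ ∈ centralizer (L : Set G) := by
  have hYn : ∀ y ∈ L, cj y Y = Y := fun y hy => cj_eq_of_mem_normalizer (k.LY hy)
  have hxY : cj x V' ≤ Y := by
    have := cj_mono x k'.VY
    rwa [hYn x hx] at this
  set U := V ⊔ cj x V' with hU
  have hUY : U ≤ Y := sup_le k.VY hxY
  have hUdec : ∀ u ∈ U, ∃ v ∈ V, ∃ w ∈ cj x V', u = v * w := fun u hu =>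
    mem_sup_comm (fun a ha b hb => f.Yc a (k.VY ha) b (hxY hb)) hu
  have hVF : ∀ w ∈ cj x V', ∃ v ∈ V, ∃ c ∈ F, w = v * c := fun w hw =>
    mem_sup_comm (fun a ha b hb => f.Yc a (k.VY ha) b (hF b hb).1) (hxF hw)
  have hEL : E ≤ L := hEB.trans k.BL
  -- `[U, E] ≤ V`
  have hUE : ∀ e ∈ E, ∀ u ∈ U, e * u * e⁻¹ * u⁻¹ ∈ V := by
    intro e he u hu
    obtain ⟨v, hv, w, hw, rfl⟩ := hUdec u hu
    obtain ⟨v1, hv1, c, hc, rfl⟩ := hVF w hw
    have h1 : e * (v * v1 * c) * e⁻¹ * (v * v1 * c)⁻¹ =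
        e * (v * v1) * e⁻¹ * (v * v1)⁻¹ := comm_drop ((hF c hc).2 e he)
    rw [← mul_assoc v v1 c, h1]
    exact mul_mem (conj_mem_of_norm k.LV (hEL he) (mul_mem hv hv1)) (inv_mem (mul_mem hv hv1))
  have hEU : ∀ e ∈ E, ∀ u ∈ U, e * u * e⁻¹ ∈ U := by
    intro e he u hu
    have h1 := mul_mem (mem_sup_left (hUE e he u hu) : _ ∈ U) hu
    rwa [inv_mul_cancel_right] at h1
  -- `x B x⁻¹` normalises `U`
  have hBx : cj x B ≤ normalizer (U : Set G) := by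
    intro b hb
    refine norm_of_conj fun u hu => ?_
    obtain ⟨v, hv, w, hw, rfl⟩ := hUdec u hu
    have hbL : b ∈ L := by
      obtain ⟨b', hb', rfl⟩ := mem_cj_iff.1 hb
      exact mul_mem (mul_mem hx (k.BL hb')) (inv_mem hx)
    have e1 : b * (v * w) * b⁻¹ = (b * v * b⁻¹) * (b * w * b⁻¹) := by group
    rw [e1]
    refine mul_mem (mem_sup_left (conj_mem_of_norm k.LV hbL hv)) (mem_sup_right ?_)
    obtain ⟨b', hb', rfl⟩ := mem_cj_iff.1 hb
    obtain ⟨w', hw', rfl⟩ := mem_cj_iff.1 hw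
    have e2 : x * b' * x⁻¹ * (x * w' * x⁻¹) * (x * b' * x⁻¹)⁻¹ = x * (b' * w' * b'⁻¹) * x⁻¹ := by
      group
    rw [e2]
    exact conj_mem_cj (conj_mem_of_norm k'.LV (k'.BL hb') hw')
  have hPx : ∀ p ∈ cB B V, p ∈ cj x B := fun p hp =>
    mem_cj.2 (cB_le B V (conj_mem_of_norm' k.LP hx hp))
  have hLU : L ≤ normalizer (U : Set G) := by
    refine k.gen x hx hm _ (fun b hb => ?_) hBx
    obtain ⟨e, he, p, hp, rfl⟩ := hEb b hb
    exact mul_mem (norm_of_conj (hEU e he)) (hBx (hPx p hp))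
  -- `V' ≤ U`
  have hV'U : V' ≤ U := by
    intro v hv
    have h1 : x * v * x⁻¹ ∈ U := mem_sup_right (conj_mem_cj hv)
    have h2 := conj_mem_of_norm' hLU hx h1
    have e1 : x⁻¹ * (x * v * x⁻¹) * x = v := by group
    rwa [e1] at h2
  obtain ⟨e, he, heP⟩ := SetLike.not_le_iff_exists.1 hEP
  have heB : e ∈ B := hEB he
  have heL : e ∈ L := k.BL heB
  set z := x * e * x⁻¹ with hz
  have hzL : z ∈ L := mul_mem (mul_mem hx heL) (inv_mem hx)
  have hzm : Mv (V ⊓ ZJ) z := k.mv x hx hm e heB heP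
  have hzU : ∀ u ∈ U, z * u * z⁻¹ * u⁻¹ ∈ V := by
    intro u hu
    have h1 := hUE e he _ (conj_mem_of_norm' hLU hx hu)
    have h2 := conj_mem_of_norm k.LV hx h1
    have e1 : x * (e * (x⁻¹ * u * x) * e⁻¹ * (x⁻¹ * u * x)⁻¹) * x⁻¹ = z * u * z⁻¹ * u⁻¹ := by
      rw [hz]; group
    rwa [e1] at h2
  intro g hg v hv
  have hvU := hV'U hv
  -- `w = z v z⁻¹ v⁻¹ ∈ V`
  have hw := hzU v hvU
  set w := z * v * z⁻¹ * v⁻¹ with hwdef
  have hgw : g * w = w * g := Bl.P_cent hg hw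
  have hzv : z * v * z⁻¹ = w * v := by rw [hwdef]; group
  have hwv : w * v = v * w := f.Yc w (k.VY hw) v (k'.VY hv)
  have h1 : g * (z * v * z⁻¹) * g⁻¹ * (z * v * z⁻¹)⁻¹ = g * v * g⁻¹ * v⁻¹ := by
    rw [hzv, hwv]; exact comm_drop hgw
  have hh : z⁻¹ * g * z ∈ cB B V := conj_mem_of_norm' k.LP hzL hg
  have h2 : z⁻¹ * (g * v * g⁻¹ * v⁻¹) * z =
      (z⁻¹ * g * z) * v * (z⁻¹ * g * z)⁻¹ * v⁻¹ := by
    rw [← h1]; group
  refine k.inter f hzL hzm (k'.quad g (cB_le B V hg) v hv) ?_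
  rw [h2]
  exact k'.quad _ (cB_le B V hh) v hv

/-- Case (ii), second half. -/
theorem case_ii' [Finite G] (f : Fm S Y H B ZJ AA) (k : Bl S Y H B ZJ AA L V) (k' : Bl S Y H B ZJ AA L' V')
    (hne : cB B V ≠ cB B V')
    (h : ∀ g ∈ cB B V, ∀ v ∈ V', g * v * g⁻¹ * v⁻¹ ∈ centralizer (L : Set G)) :
    ∀ b ∈ B, ∀ v ∈ V', b * v * b⁻¹ * v⁻¹ ∈ centralizer (L : Set G) := by
  by_cases hcov : ∀ b ∈ B, ∃ p ∈ cB B V, ∃ p' ∈ cB B V', b = p * p'
  · intro b hb v hv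
    obtain ⟨p, hp, p', hp', rfl⟩ := hcov b hb
    rw [comm_drop' (Bl.P_cent hp' hv)]
    exact h p hp v hv
  exfalso
  -- `A ≤ P₁ ↔ A ≤ P₂`
  have hA12 : ∀ A ∈ AA, A ≤ cB B V → A ≤ cB B V' := by
    intro A hA hAP
    by_contra hAP'
    apply hcov
    obtain ⟨-, h1, -, -⟩ := k'.order f k'.VY le_rfl hA hAP'
    intro b hb
    obtain ⟨a, ha, p, hp, rfl⟩ := h1 b hb
    exact ⟨a, hAP ha, p, hp, rfl⟩
  have hA21 : ∀ A ∈ AA, A ≤ cB B V' → A ≤ cB B V := by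
    intro A hA hAP'
    by_contra hAP
    apply hcov
    obtain ⟨-, h1, -, -⟩ := k.order f k.VY le_rfl hA hAP
    intro b hb
    obtain ⟨a, ha, p, hp, e⟩ := h1 b⁻¹ (inv_mem hb)
    refine ⟨p⁻¹, inv_mem hp, a⁻¹, inv_mem (hAP' ha), ?_⟩
    rw [← mul_inv_rev, ← e, inv_inv]
  obtain ⟨A, hA, hAP⟩ := k.off
  have hAP' : ¬ A ≤ cB B V' := fun h1 => hAP (hA21 A hA h1)
  obtain ⟨h1, h2, h3, h4⟩ := k.order f k.VY le_rfl hA hAP
  obtain ⟨h1', h2', h3', h4'⟩ := k'.order f k'.VY le_rfl hA hAP'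
  have hi : A ⊓ cB B V ≤ cB B V' := hA12 _ (f.cutW le_rfl hA h4) inf_le_right
  have hi' : A ⊓ cB B V' ≤ cB B V := hA21 _ (f.cutW le_rfl hA h4') inf_le_right
  have hi2 : A ⊓ cB B V = A ⊓ cB B V' :=
    le_antisymm (le_inf inf_le_left hi) (le_inf inf_le_left hi')
  -- `|P₁| = |P₂|`
  have hcard : Nat.card (cB B V) = Nat.card (cB B V') := by
    have hAB : A ≤ B := f.le A hA
    have e : ∀ {P : Subgroup G}, P ≤ B → (∀ b ∈ B, ∃ e ∈ A, ∃ p ∈ P, b = e * p) →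
        Nat.card B * Nat.card ↥(A ⊓ P) = Nat.card A * Nat.card P := by
      intro P hP hPd
      have h5 := Cfsg.Agent.Lib.ProductSet.card_mul_card_inf A P
      have h6 : (A : Set G) * (P : Set G) = (B : Set G) := by
        ext b
        constructor
        · rintro ⟨a, ha, p, hp, rfl⟩
          exact mul_mem (hAB ha) (hP hp)
        · intro hb
          obtain ⟨a, ha, p, hp, rfl⟩ := hPd b hb
          exact ⟨a, ha, p, hp, rfl⟩
      rw [h6] at h5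
      exact h5
    have e1 := e (cB_le B V) h2
    have e2 := e (cB_le B V') h2'
    rw [hi2, e2] at e1
    exact (Nat.eq_of_mul_eq_mul_left Nat.card_pos e1).symm
  have hnle : ¬ cB B V ≤ cB B V' := fun h5 => hne (Subgroup.eq_of_le_of_card_ge h5 hcard.ge)
  obtain ⟨g, hg, hg'⟩ := SetLike.not_le_iff_exists.1 hnle
  obtain ⟨a, ha, p, hp, e⟩ := h2' g (cB_le B V hg)
  have haB : a ∈ B := f.le A hA ha
  have haP' : a ∉ cB B V' := fun h5 => hg' (by rw [e]; exact mul_mem h5 hp)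
  apply haP'
  refine mem_cB.2 ⟨haB, fun v hv => ?_⟩
  -- `v = v₁ c`
  have hvc : v ∈ V ⊔ cW Y A := by
    rw [← h3, hi2, h3']
    exact mem_sup_left hv
  obtain ⟨v1, hv1, c, hc, rfl⟩ := mem_sup_comm
    (fun a ha b hb => f.Yc a (k.VY ha) b (cW_le Y A hb)) hvc
  have h5 := h g hg _ hv
  rw [e, comm_drop' (Bl.P_cent hp hv), comm_drop ((mem_cW.1 hc).2 a ha)] at h5
  have h6 := k.faith v1 hv1 a haB fun l hl => (mem_centralizer_iff.1 h5 l hl)
  have h7 := (mem_cW.1 hc).2 a ha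
  calc a * (v1 * c) = (a * v1) * c := by group
    _ = v1 * (a * c) := by rw [h6]; group
    _ = v1 * c * a := by rw [h7]; group

/-- **CLAIM.** `P₁ ≠ P₂ ⇒ [V₂, B] ≤ C(L₁)`. -/
theorem claim [Finite G] (f : Fm S Y H B ZJ AA) (k : Bl S Y H B ZJ AA L V) (k' : Bl S Y H B ZJ AA L' V')
    (hne : cB B V ≠ cB B V') : ∀ b ∈ B, ∀ v ∈ V', b * v * b⁻¹ * v⁻¹ ∈ centralizer (L : Set G) := by
  have hYn : ∀ y ∈ L, cj y Y = Y := fun y hy => cj_eq_of_mem_normalizer (k.LY hy)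
  set W : Subgroup G := V ⊔ ⨆ y : L, cj (y : G) V' with hWdef
  have hVW : V ≤ W := le_sup_left
  have hVW' : ∀ y ∈ L, cj y V' ≤ W := fun y hy =>
    (le_iSup (fun y : L => cj (y : G) V') ⟨y, hy⟩).trans le_sup_right
  have hWmin : ∀ X : Subgroup G, V ≤ X → (∀ y ∈ L, cj y V' ≤ X) → W ≤ X := fun X h1 h2 =>
    sup_le h1 (iSup_le fun y => h2 y y.2)
  have hWY : W ≤ Y := hWmin Y k.VY fun y hy => by
    have := cj_mono y k'.VY
    rwa [hYn y hy] at this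
  have hWn : L ≤ normalizer (W : Set G) := by
    intro l hl
    refine mem_normalizer_of_cj_le ?_
    rw [cj_le_iff]
    refine hWmin _ ?_ fun y hy => ?_
    · rw [← cj_le_iff, cj_eq_of_mem_normalizer (k.LV hl)]
      exact hVW
    · rw [← cj_le_iff, cj_cj]
      exact hVW' _ (mul_mem hl hy)
  obtain ⟨A, hA, hAP⟩ := k.off
  have hAB : A ≤ B := f.le A hA
  obtain ⟨h1, h2, h3, h4⟩ := k.order f hVW hWY hA hAP
  by_cases hcase : ∃ x ∈ L, Mv (V ⊓ ZJ) x ∧ ¬ A ⊓ cB B V ≤ cj x (cB B V')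
  · obtain ⟨x, hx, hm, hnle⟩ := hcase
    exact case_i f k k' hWY hVW' hWmin hWn hA hAP h4 hx hm hnle
  · push Not at hcase
    obtain ⟨x, hx, hm⟩ := k.ne
    refine case_ii' f k k' hne ?_
    refine case_ii f k k' (E := A) (F := cW W A) hAB hAP h2
      (fun c hc => ⟨hWY (cW_le W A hc), (mem_cW.1 hc).2⟩) hx hm ?_
    rw [← h3]
    intro v hv
    refine mem_cW.2 ⟨hVW' x hx hv, fun e he => ?_⟩
    obtain ⟨e', he', rfl⟩ := mem_cj_iff.1 (hcase x hx hm he)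
    obtain ⟨v', hv', rfl⟩ := mem_cj_iff.1 hv
    exact comm_conj (Bl.P_cent he' hv')

end

end Cfsg.Agent.Omega.NO3S.Level.Claim

end

section


/-!
# TEXT LL (helper584 #20357, #20624), (5)

Blocks `(K l, V l)`, `l ∈ ι`, over a pair `(B, ZJ)`, in an elementary abelian group `U` which is generated by the
conjugates of the `V l`; a group `P ≥ B` which normalises the family `AA` of best offenders and is transitive on the
`V l`.  With `c l = [V l, B]`: a `P`-conjugate of `c m` is `c l` or is centralised by `K l`.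

* `exists_move` : some smallest member of `AA` (`DM U AA`) moves `V l`;
* `full` : `U = V l C_U(A)` for it; `comm_eq` : `[U, A] = [V l, B]`;
* `five` : **(5)**.
-/

set_option autoImplicit false
set_option linter.unusedSectionVars false

namespace Cfsg.Agent.Omega.OM.Lev.Low.Five

open Subgroup Cfsg Cfsg.Agent.ZN Cfsg.Agent.ZN.ChoiceBase
open Cfsg.Agent.Omega.SQ1.Bau (mem_sup_comm Mv)
open Cfsg.Agent.Omega.NO3b.FPB.Base (cW mem_cW cW_le)
open Cfsg.Agent.Omega.NO3S.Level.Claim (Fm Bl cB mem_cB cB_le BB)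
open Cfsg.Agent.Omega.NO3S.ThmB (Fam Fr DM K1 KK card_inf_relIndex relIndex_cj le_normalizer_centralizer norm_sSup
  cj_le_cj_iff mem_cj_of exists_of_mem_cj comm_le mem_comm)

universe u

variable {G : Type u} [Group G]

/-- The situation of (5). -/
structure Set5 {ι : Type*} (S U H B ZJ P : Subgroup G) (AA : Set (Subgroup G)) (K V : ι → Subgroup G) : Prop where
  fm : Fm S U H B ZJ AA
  bl : ∀ l, Bl S U H B ZJ AA (K l) (V l)
  U2 : IsElementaryAbelian 2 U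
  BP : B ≤ P
  PU : P ≤ normalizer (U : Set G)
  PZ : P ≤ normalizer (ZJ : Set G)
  PA : ∀ A ∈ AA, ∀ g ∈ P, cj g A ∈ AA
  tr : ∀ l m, ∃ g ∈ P, cj g (V l) = V m
  gen : ∀ C : Subgroup G, (∀ m, V m ≤ C) → P ≤ normalizer (C : Set G) →
    (∀ m, K m ≤ normalizer (C : Set G)) → U ≤ C

namespace Set5

variable {ι : Type*} {S U H B ZJ P : Subgroup G} {AA : Set (Subgroup G)} {K V : ι → Subgroup G}
  (X : Set5 S U H B ZJ P AA K V)

include X

theorem DM_conj {A : Subgroup G} (hA : A ∈ DM U AA) {g : G} (hg : g ∈ normalizer (U : Set G))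
    (hA' : cj g A ∈ AA) : cj g A ∈ DM U AA := by
  have e : cj g (centralizer (U : Set G)) = centralizer (U : Set G) := by
    rw [cj_centralizer, cj_eq_of_mem_normalizer hg]
  refine ⟨hA', fun h => hA.2.1 ?_, fun B hB hB' => ?_⟩
  · rw [← e] at h
    exact cj_le_cj_iff.1 h
  · have h1 := hA.2.2 B hB hB'
    have h2 := relIndex_cj (A := A) (C := centralizer (U : Set G)) g
    rw [e] at h2
    rwa [h2]

theorem DM_P {A : Subgroup G} (hA : A ∈ DM U AA) {g : G} (hg : g ∈ P) : cj g A ∈ DM U AA :=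
  X.DM_conj hA (X.PU hg) (X.PA A hA.1 g hg)

theorem DM_K {A : Subgroup G} (hA : A ∈ DM U AA) {l : ι} (hc : A ≤ centralizer (V l : Set G)) {h : G}
    (hh : h ∈ K l) : cj h A ∈ DM U AA :=
  X.DM_conj hA ((X.bl l).LY hh) ((X.bl l).conj_mem X.fm hA.1 (le_inf (X.fm.le A hA.1) hc) hh)

theorem exists_some [Finite G] [Nonempty ι] : ∃ A ∈ DM U AA, ∃ m, ¬ A ≤ centralizer (V m : Set G) := by
  by_contra h0
  push Not at h0
  obtain ⟨A, hA⟩ : ∃ A, A ∈ DM U AA := by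
    obtain ⟨A1, hA1, hA1'⟩ := (X.bl (Classical.arbitrary ι)).off
    have hn : ¬ A1 ≤ centralizer (U : Set G) := fun h => hA1' (le_inf (X.fm.le A1 hA1)
      (h.trans (centralizer_le (X.bl _).VY)))
    have h1 : ∃ n, ∃ A ∈ AA, ¬ A ≤ centralizer (U : Set G) ∧ (centralizer (U : Set G)).relIndex A = n :=
      ⟨_, A1, hA1, hn, rfl⟩
    classical
    obtain ⟨A, hA, hA', hn⟩ := Nat.find_spec h1
    refine ⟨A, hA, hA', fun B hB hB' => ?_⟩
    rw [hn]
    exact Nat.find_min' h1 ⟨B, hB, hB', rfl⟩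
  refine hA.2.1 ?_
  have h1 : U ≤ centralizer ((sSup (DM U AA) : Subgroup G) : Set G) := by
    refine X.gen _ (fun m => ?_) ?_ fun m => ?_
    · rw [le_centralizer_iff]
      exact sSup_le fun B hB => h0 B hB m
    · exact le_normalizer_centralizer (norm_sSup fun B hB g hg => X.DM_P hB hg)
    · exact le_normalizer_centralizer (norm_sSup fun B hB g hg => X.DM_K hB (h0 B hB m) hg)
  exact (le_sSup hA).trans (le_centralizer_iff.1 h1)

/-- Some smallest member of `AA` moves `V l`. -/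
theorem exists_move [Finite G] (l : ι) : ∃ A, Fr (V l) (DM U AA) A := by
  have : Nonempty ι := ⟨l⟩
  obtain ⟨A, hA, m, hm⟩ := X.exists_some
  obtain ⟨g, hg, e⟩ := X.tr m l
  refine ⟨cj g A, X.DM_P hA hg, fun h => hm ?_⟩
  rw [← e, ← cj_centralizer] at h
  exact cj_le_cj_iff.1 h

/-- A smallest member of `AA` which moves `V l`. -/
theorem inf_le [Finite G] {l : ι} {A : Subgroup G} (hA : Fr (V l) (DM U AA) A) :
    A ⊓ cB B (V l) ≤ centralizer (U : Set G) := by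
  have hn : ¬ A ≤ cB B (V l) := fun h => hA.2 (h.trans inf_le_right)
  obtain ⟨-, -, -, h4⟩ := (X.bl l).order X.fm (X.bl l).VY le_rfl hA.1.1 hn
  have hE := X.fm.cutW le_rfl hA.1.1 h4
  by_contra hc
  have h5 := hA.1.2.2 _ hE hc
  have e1 := card_inf_relIndex (A := A) (C := centralizer (U : Set G))
  have e2 := card_inf_relIndex (A := A ⊓ cB B (V l)) (C := centralizer (U : Set G))
  have e3 : A ⊓ cB B (V l) ⊓ centralizer (U : Set G) = A ⊓ centralizer (U : Set G) :=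
    le_antisymm (inf_le_inf_right _ inf_le_left) (le_inf h4.2.1 inf_le_right)
  rw [e3] at e2
  have h6 : Nat.card A ≤ Nat.card ↥(A ⊓ cB B (V l)) := by
    rw [← e1, ← e2]
    exact Nat.mul_le_mul_right _ h5
  exact hn (inf_eq_left.1 (eq_of_le_of_card_ge inf_le_left h6))

theorem full [Finite G] {l : ι} {A : Subgroup G} (hA : Fr (V l) (DM U AA) A) {u : G} (hu : u ∈ U) :
    ∃ v ∈ V l, ∃ c ∈ U, (∀ a ∈ A, a * c = c * a) ∧ u = v * c := by
  have hn : ¬ A ≤ cB B (V l) := fun h => hA.2 (h.trans inf_le_right)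
  obtain ⟨-, -, h3, -⟩ := (X.bl l).order X.fm (X.bl l).VY le_rfl hA.1.1 hn
  have h1 : u ∈ V l ⊔ cW U A := by
    rw [← h3]
    refine mem_cW.2 ⟨hu, fun e he => ?_⟩
    exact (mem_centralizer_iff.1 (X.inf_le hA he) u hu).symm
  obtain ⟨v, hv, c, hc, rfl⟩ := mem_sup_comm
    (fun a ha b hb => X.fm.Yc a ((X.bl l).VY ha) b (cW_le U A hb)) h1
  exact ⟨v, hv, c, cW_le U A hc, (mem_cW.1 hc).2, rfl⟩

/-- `B = A C_B(V l)`. -/
theorem dec [Finite G] {l : ι} {A : Subgroup G} (hA : Fr (V l) (DM U AA) A) {b : G} (hb : b ∈ B) :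
    ∃ a ∈ A, ∃ p ∈ cB B (V l), b = a * p :=
  ((X.bl l).order X.fm (X.bl l).VY le_rfl hA.1.1 fun h => hA.2 (h.trans inf_le_right)).2.1 b hb

theorem fam [Finite G] (l : ι) : Fam B P (K l) U (V l) (sSup AA) (DM U AA) where
  SP := X.BP
  SP' := (X.bl l).BL
  JS := sSup_le fun A hA => X.fm.le A hA
  JP := norm_sSup fun A hA g hg => X.PA A hA g hg
  DJ A hA := le_sSup hA.1
  DP A hA g hg := X.DM_P hA hg
  DP' A hA hc h hh := X.DM_K hA hc hh
  U2 := X.U2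
  UP := X.PU
  UP' := (X.bl l).LY
  VU := (X.bl l).VY
  VP' := (X.bl l).LV
  ex := X.exists_move l
  full A hA u hu := X.full hA hu
  uq A hA e he _ := by
    obtain ⟨a, ha, p, hp, rfl⟩ := X.dec hA (sSup_le (fun A hA => X.fm.le A hA) he : e ∈ B)
    refine ⟨a, ha, fun v hv => ?_⟩
    have h1 := (mem_cB.1 hp).2 v hv
    calc a * p * v * (a * p)⁻¹ = a * (p * v) * p⁻¹ * a⁻¹ := by group
      _ = a * v * a⁻¹ := by rw [h1]; group
  cJ A hA x hx e he := by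
    have hx' : x ∈ ZJ := by
      have h1 : ⁅V l, A⁆ ≤ ZJ := comm_le fun v hv a ha => by
        have h2 := (X.bl l).quad a (X.fm.le A hA.1.1 ha) v hv
        have e1 : v * a * v⁻¹ * a⁻¹ = (a * v * a⁻¹ * v⁻¹)⁻¹ := by group
        rw [e1]
        exact inv_mem h2
      exact h1 hx
    exact X.fm.BZ e (sSup_le (fun A hA => X.fm.le A hA) he : e ∈ B) x hx'

/-- `[V l, A] = [V l, B]` -/
theorem comm_eq [Finite G] {l : ι} {A : Subgroup G} (hA : Fr (V l) (DM U AA) A) : ⁅V l, A⁆ = ⁅V l, B⁆ := by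
  apply le_antisymm (commutator_mono le_rfl (X.fm.le A hA.1.1))
  refine comm_le fun v hv b hb => ?_
  obtain ⟨a, ha, p, hp, rfl⟩ := X.dec hA hb
  have h1 := (mem_cB.1 hp).2 _ (inv_mem hv)
  have e : v * (a * p) * v⁻¹ * (a * p)⁻¹ = v * a * v⁻¹ * a⁻¹ := by
    calc v * (a * p) * v⁻¹ * (a * p)⁻¹ = v * a * (p * v⁻¹) * p⁻¹ * a⁻¹ := by group
      _ = v * a * v⁻¹ * a⁻¹ := by rw [h1]; group
  rw [e]
  exact mem_comm hv ha

theorem c_le (l : ι) : ⁅V l, B⁆ ≤ ZJ := comm_le fun v hv b hb => by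
  have h2 := (X.bl l).quad b hb v hv
  have e1 : v * b * v⁻¹ * b⁻¹ = (b * v * b⁻¹ * v⁻¹)⁻¹ := by group
  rw [e1]
  exact inv_mem h2

/-- An element of `KK` which moves the line of `V l`. -/
theorem exists_KK [Finite G] (l : ι) : ∃ x ∈ KK (K l) (V l) (DM U AA), x ∈ K l ∧ Mv (V l ⊓ ZJ) x := by
  obtain ⟨A, hA⟩ := X.exists_move l
  obtain ⟨a, ha, han⟩ := SetLike.not_le_iff_exists.1 hA.2
  have haB : a ∈ B := X.fm.le A hA.1.1 ha
  have hac : a ∉ cB B (V l) := fun h => han h.2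
  obtain ⟨x, hx, hm⟩ := (X.bl l).ne
  have h1 := (X.bl l).mv x hx hm a haB hac
  have hy : x * a * x⁻¹ ∈ K l := mul_mem (mul_mem hx ((X.bl l).BL haB)) (inv_mem hx)
  have hy1 : x * a * x⁻¹ ∈ K1 (K l) (V l) (DM U AA) := subset_closure ⟨A, hA, x, hx, mem_cj_of ha⟩
  have h2 := (X.bl l).mv _ hy h1 a haB hac
  exact ⟨_, subset_closure ⟨A, hA, _, hy1, mem_cj_of ha⟩,
    mul_mem (mul_mem hy ((X.bl l).BL haB)) (inv_mem hy), h2⟩

/-- An element of `ZJ` which is centralised by `KK` is centralised by `K l`. -/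
theorem cen_of_KK [Finite G] {l : ι} {y : G} (hy : y ∈ ZJ) (hc : ∀ x ∈ KK (K l) (V l) (DM U AA), x * y = y * x) :
    ∀ x ∈ K l, x * y = y * x := by
  obtain ⟨x, hx, hxK, hm⟩ := X.exists_KK l
  have h1 := (X.bl l).inter X.fm hxK hm hy (by
    have h2 := hc x hx
    have e : x⁻¹ * y * x = y := by rw [mul_assoc, ← h2]; group
    rwa [e])
  exact fun g hg => mem_centralizer_iff.1 h1 g hg

/-- **(5)** -/
theorem five [Finite G] {g : G} (hg : g ∈ P) (l m : ι) :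
    cj g ⁅V m, B⁆ = ⁅V l, B⁆ ∨ cj g ⁅V m, B⁆ ≤ centralizer (K l : Set G) := by
  obtain ⟨g0, hg0, e0⟩ := X.tr l m
  obtain ⟨A', hA'⟩ := X.exists_move l
  have hA : Fr (V m) (DM U AA) (cj g0 A') := by
    refine ⟨X.DM_P hA'.1 hg0, fun h => hA'.2 ?_⟩
    rw [← e0, ← cj_centralizer] at h
    exact cj_le_cj_iff.1 h
  have hgg : g * g0 ∈ P := mul_mem hg hg0
  have e1 : cj g ⁅V m, B⁆ = ⁅U, cj (g * g0) A'⁆ := by
    rw [← X.comm_eq hA, (X.fam m).conj_commutator hA hg, cj_cj]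
  by_cases hV : cj (g * g0) A' ≤ centralizer (V l : Set G)
  · right
    intro x hx
    rw [mem_centralizer_iff]
    have hxZ : x ∈ ZJ := by
      obtain ⟨y, hy, rfl⟩ := exists_of_mem_cj hx
      exact (mem_normalizer_iff.1 (X.PZ hg) y).1 (X.c_le m hy)
    refine X.cen_of_KK hxZ fun k hk => ?_
    rw [e1] at hx
    exact (X.fam l).four hA' hgg hV hx hk
  · left
    have hF : Fr (V l) (DM U AA) (cj (g * g0) A') := ⟨X.DM_P hA'.1 hgg, hV⟩
    rw [e1, (X.fam l).commutator_eq hF, X.comm_eq hF]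

end Set5

end Cfsg.Agent.Omega.OM.Lev.Low.Five

end

section


/-!
# TEXT LL v2 (helper584 #20624), (6) and (7)(W): two `Q`-orbits in the support of `z` are impossible

A set `CC` of subgroups ("lines") which `P` permutes transitively; `Rr CC C` is generated by the lines `≠ C`; a line
`C` is in the support of `x` iff `x ∉ Rr CC C`.  Three elements `w 0, w 1, w 2` with product `1`, permuted by `P` as by
the full symmetric group.

* `tri` : every line is in all three supports, or every line is in exactly two of them;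
* `w_dead` : the support of `z = w 2` is not the union of two `Q`-orbits `p`, `p'` with `z = y y₁`, `y` over `p`,
  `y₁` over `p'`, and `y ∈ (w 0 or w 1) C(P)`;
* `f_one` : if the support of `z` is one `Q`-orbit, then it is `CC`.

(helper12 #20987 (C).)
-/

set_option autoImplicit false
set_option linter.unusedSectionVars false

namespace Cfsg.Agent.Omega.OM.Lev.Low.WDead

open Subgroup Cfsg Cfsg.Agent.ZN Cfsg.Agent.ZN.ChoiceBase
open Cfsg.Agent.Omega.NO3S.ThmB (mem_cj_of exists_of_mem_cj)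

universe u

variable {G : Type u} [Group G]

/-- What the lines `≠ C` generate. -/
def Rr (CC : Set (Subgroup G)) (C : Subgroup G) : Subgroup G := sSup (CC \ {C})

theorem cj_sSup_le {g : G} {s : Set (Subgroup G)} {R : Subgroup G} (h : ∀ C ∈ s, cj g C ≤ R) : cj g (sSup s) ≤ R := by
  have h1 : sSup s ≤ cj g⁻¹ R := sSup_le fun C hC => by
    have h2 := cj_mono g⁻¹ (h C hC)
    rwa [cj_inv_cj] at h2
  have h3 := cj_mono g h1
  rwa [show cj g (cj g⁻¹ R) = R by rw [cj_cj, mul_inv_cancel, cj_one]] at h3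

theorem conj_mem_sSup {g : G} {s t : Set (Subgroup G)} (h : ∀ C ∈ s, cj g C ∈ t) {x : G} (hx : x ∈ sSup s) :
    g * x * g⁻¹ ∈ sSup t :=
  cj_sSup_le (fun C hC => le_sSup (h C hC)) (mem_cj_of hx)

/-- `P` permutes the lines transitively. -/
structure Lines (P : Subgroup G) (CC : Set (Subgroup G)) : Prop where
  cl : ∀ g ∈ P, ∀ C ∈ CC, cj g C ∈ CC
  tr : ∀ C ∈ CC, ∀ D ∈ CC, ∃ g ∈ P, cj g C = D

/-- Three elements with product `1` on which `P` acts as the symmetric group. -/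
structure Tri (P : Subgroup G) (w : Fin 3 → G) (y' : G) : Prop where
  mul : ∀ a b c : Fin 3, a ≠ b → c ≠ a → c ≠ b → w a * w b = w c
  act : ∀ g ∈ P, ∃ σ : Equiv.Perm (Fin 3), ∀ a, g * w a * g⁻¹ = w (σ a)
  ex : ∀ σ : Equiv.Perm (Fin 3), ∃ g ∈ P, g * y' = y' * g ∧ ∀ a, g * w a * g⁻¹ = w (σ a)
  yw : ∀ a, y' * w a = w a * y'

section

variable {P : Subgroup G} {CC : Set (Subgroup G)} {w : Fin 3 → G} {y' : G}

theorem Tri.sq (k : Tri P w y') (a : Fin 3) : w a * w a = 1 := by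
  obtain ⟨b, c, h1, h2, h3⟩ : ∃ b c : Fin 3, b ≠ a ∧ c ≠ b ∧ c ≠ a := by decide +revert
  have e1 := k.mul b a c h1 h2 h3
  have e2 := k.mul c a b h3 h2.symm h1
  rw [← e1, mul_assoc] at e2
  exact mul_eq_left.1 e2

theorem Lines.mem_Rr (h : Lines P CC) {g : G} (hg : g ∈ P) {C : Subgroup G} {x : G} (hx : x ∈ Rr CC C) :
    g * x * g⁻¹ ∈ Rr CC (cj g C) :=
  conj_mem_sSup (t := CC \ {cj g C}) (fun D (hD : D ∈ CC \ {C}) => (⟨h.cl g hg D hD.1, fun e => hD.2 (by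
    have e' : cj g D = cj g C := e
    have := congrArg (cj g⁻¹) e'
    rwa [cj_inv_cj, cj_inv_cj] at this)⟩ : _ ∈ CC ∧ _ ∉ _)) hx

theorem Lines.mem_Rr_iff (h : Lines P CC) {g : G} (hg : g ∈ P) {C : Subgroup G} {x : G} :
    g * x * g⁻¹ ∈ Rr CC (cj g C) ↔ x ∈ Rr CC C := by
  refine ⟨fun hx => ?_, h.mem_Rr hg⟩
  have h1 := h.mem_Rr (inv_mem hg) hx
  rw [cj_inv_cj] at h1
  have e : g⁻¹ * (g * x * g⁻¹) * g⁻¹⁻¹ = x := by group
  rwa [e] at h1

/-- Every line is in all three supports, or every line is in exactly two of them. -/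
theorem tri (h : Lines P CC) (k : Tri P w y') {C0 : Subgroup G} (hC0 : C0 ∈ CC) {a0 : Fin 3} (hz : w a0 ∉ Rr CC C0) :
    (∀ C ∈ CC, ∀ a, w a ∉ Rr CC C) ∨ ∀ C ∈ CC, ∃ a, w a ∈ Rr CC C ∧ ∀ b, w b ∈ Rr CC C → b = a := by
  by_cases h1 : ∀ C ∈ CC, ∀ a, w a ∉ Rr CC C
  · exact Or.inl h1
  right
  push Not at h1
  obtain ⟨C, hC, a, ha⟩ := h1
  intro D hD
  obtain ⟨g, hg, rfl⟩ := h.tr C hC D hD
  obtain ⟨σ, hσ⟩ := k.act g hg
  have h2 : w (σ a) ∈ Rr CC (cj g C) := by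
    rw [← hσ a]
    exact h.mem_Rr hg ha
  refine ⟨σ a, h2, fun b hb => ?_⟩
  by_contra hn
  have h3 : ∀ c, w c ∈ Rr CC (cj g C) := fun c => by
    by_cases hc1 : c = σ a
    · rw [hc1]; exact h2
    by_cases hc2 : c = b
    · rw [hc2]; exact hb
    rw [← k.mul (σ a) b c (fun e => hn e.symm) hc1 hc2]
    exact mul_mem h2 hb
  obtain ⟨g', hg', e⟩ := h.tr _ hD C0 hC0
  obtain ⟨τ, hτ⟩ := k.act g' hg'
  refine hz ?_
  have h4 := h.mem_Rr hg' (h3 (τ.symm a0))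
  rw [hτ, Equiv.apply_symm_apply, e] at h4
  exact h4

/-- A `Q`-orbit of lines. -/
structure Orb (Q : Subgroup G) (p : Set (Subgroup G)) : Prop where
  ne : p.Nonempty
  orb : ∀ C ∈ p, ∀ D, D ∈ p ↔ ∃ q ∈ Q, cj q C = D

theorem cj_flip {g q : G} (C : Subgroup G) : cj g (cj q C) = cj (g * q * g⁻¹) (cj g C) := by
  rw [cj_cj, cj_cj]
  congr 1
  group

theorem Orb.map {Q : Subgroup G} {p p' : Set (Subgroup G)} (hp : Orb Q p) (hp' : Orb Q p') {g : G}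
    (hg : g ∈ normalizer (Q : Set G)) {C : Subgroup G} (hC : C ∈ p) (hC' : cj g C ∈ p') :
    ∀ D ∈ p, cj g D ∈ p' := by
  intro D hD
  obtain ⟨q, hq, rfl⟩ := (hp.orb C hC D).1 hD
  rw [cj_flip]
  exact (hp'.orb _ hC' _).2 ⟨_, (mem_normalizer_iff.1 hg q).1 hq, rfl⟩

/-- (W) is impossible. -/
theorem w_dead (h : Lines P CC) (k : Tri P w y') {Q : Subgroup G} (hPQ : P ≤ normalizer (Q : Set G)) (hQP : Q ≤ P)
    (hQw : ∀ q ∈ Q, ∀ a, q * w a = w a * q) {p p' : Set (Subgroup G)} (hp : Orb Q p) (hp' : Orb Q p')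
    (hpC : p ⊆ CC) (hpC' : p' ⊆ CC) (hdis : ∀ C ∈ p, C ∉ p') (hs : ∀ C ∈ CC, w 2 ∉ Rr CC C ↔ C ∈ p ∨ C ∈ p')
    {y v : G} (hy : y ∈ sSup p) (hyv : y = v * y') (hv : v = w 0 ∨ v = w 1) {N : Subgroup G}
    (hN : ∀ C ∈ CC, C ∉ p → C ∉ p' → C ≤ N) (hyN : y' ∈ N) (hzN : w 2 ∉ N) : False := by
  obtain ⟨C0, hC0⟩ := hp.ne
  obtain ⟨C0', hC0'⟩ := hp'.ne
  -- conjugating `y`
  have hmove : ∀ (g : G) (σ : Equiv.Perm (Fin 3)), g * y' = y' * g → (∀ a, g * w a * g⁻¹ = w (σ a)) → ∀ b, v = w b →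
      g * y * g⁻¹ = w (σ b) * y' := by
    intro g σ hgy hσ b hb
    rw [hyv, hb, ← hσ b]
    calc g * (w b * y') * g⁻¹ = g * w b * (y' * g⁻¹) := by group
      _ = g * w b * (g⁻¹ * y') := by
          congr 1
          rw [eq_inv_mul_iff_mul_eq, ← mul_assoc, hgy, mul_inv_cancel_right]
      _ = g * w b * g⁻¹ * y' := by group
  have hdiff : ∀ (g : G) (σ : Equiv.Perm (Fin 3)), g * y' = y' * g → (∀ a, g * w a * g⁻¹ = w (σ a)) → ∀ b c, v = w b →
      b ≠ σ b → c ≠ b → c ≠ σ b → g * y * g⁻¹ ∈ sSup p → w c ∈ sSup p := by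
    intro g σ hgy hσ b c hb h1 h2 h3 h4
    have h5 := mul_mem (inv_mem hy) h4
    rw [hmove g σ hgy hσ b hb, hyv, hb] at h5
    have e : (w b * y')⁻¹ * (w (σ b) * y') = w c := by
      have e1 : (w b)⁻¹ = w b := inv_eq_of_mul_eq_one_left (k.sq b)
      calc (w b * y')⁻¹ * (w (σ b) * y') = y'⁻¹ * ((w b)⁻¹ * w (σ b)) * y' := by group
        _ = y'⁻¹ * (y' * w c) := by rw [e1, k.mul b (σ b) c h1 h2 h3, k.yw c, mul_assoc]
        _ = w c := by group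
    rwa [e] at h5
  obtain ⟨bv, hbv, hbv2⟩ : ∃ b : Fin 3, v = w b ∧ b ≠ 2 := by
    rcases hv with hv | hv
    exacts [⟨0, hv, by decide⟩, ⟨1, hv, by decide⟩]
  have hsup : ∀ D ∈ CC, D ∉ p → sSup p ≤ Rr CC D := fun D _ hD =>
    sSup_le_sSup fun C hC => ⟨hpC hC, fun e => hD (by
      have e' : C = D := e
      rwa [← e'])⟩
  rcases tri h k (hpC hC0) ((hs C0 (hpC hC0)).2 (Or.inl hC0)) with hA | hB
  · -- every line is in all three supports
    obtain ⟨σ, hσ1, hσ2⟩ : ∃ σ : Equiv.Perm (Fin 3), bv ≠ σ (σ bv) ∧ ∀ c, c ≠ σ (σ c) := by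
      have h0 : ∀ c : Fin 3, c ≠ finRotate 3 (finRotate 3 c) := by decide
      exact ⟨finRotate 3, h0 bv, h0⟩
    obtain ⟨g, hg, hgy, hgw⟩ := k.ex σ
    have hPP : ∀ C ∈ p, cj (g * g) C ∈ p := by
      have hcase : ∀ C ∈ p, cj g C ∈ p ∨ cj g C ∈ p' := fun C hC =>
        (hs _ (h.cl g hg C (hpC hC))).1 (hA _ (h.cl g hg C (hpC hC)) 2)
      intro C hC
      rw [← cj_cj]
      rcases hcase C hC with h1 | h1
      · exact hp.map hp (hPQ hg) hC h1 _ h1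
      · have h2 := (hs _ (h.cl g hg _ (hpC' h1))).1 (hA _ (h.cl g hg _ (hpC' h1)) 2)
        rcases h2 with h2 | h2
        · exact h2
        · exfalso
          obtain ⟨q, hq, e⟩ := (hp'.orb _ h1 _).1 h2
          -- `cj q (cj g C) = cj g (cj g C)`
          have e3 : cj g C = cj (g⁻¹ * q * g) C := by
            have e4 := congrArg (cj g⁻¹) e
            rw [cj_inv_cj, cj_cj, cj_cj] at e4
            exact e4.symm
          have h5 : g⁻¹ * q * g ∈ Q := by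
            have := (mem_normalizer_iff.1 (inv_mem (hPQ hg)) q).1 hq
            simpa using this
          exact hdis _ ((hp.orb C hC _).2 ⟨_, h5, rfl⟩) (e3 ▸ h1)
    have hg2 : ∀ a, g * g * w a * (g * g)⁻¹ = w ((σ * σ) a) := fun a => by
      calc g * g * w a * (g * g)⁻¹ = g * (g * w a * g⁻¹) * g⁻¹ := by group
        _ = w ((σ * σ) a) := by rw [hgw, hgw]; rfl
    have hgy2 : g * g * y' = y' * (g * g) := by
      rw [mul_assoc, hgy, ← mul_assoc, hgy, mul_assoc]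
    obtain ⟨c, hc1, hc2⟩ : ∃ c : Fin 3, c ≠ bv ∧ c ≠ (σ * σ) bv := by
      have : ∀ a b : Fin 3, ∃ c, c ≠ a ∧ c ≠ b := by decide
      exact this _ _
    have h6 := hdiff (g * g) (σ * σ) hgy2 hg2 bv c hbv hσ1 hc1 hc2 (conj_mem_sSup hPP hy)
    exact hA C0' (hpC' hC0') c (hsup C0' (hpC' hC0') (fun h7 => hdis _ h7 hC0') h6)
  · -- every line is in exactly two supports
    have hq : ∀ q ∈ Q, ∀ a, ∀ C, w a ∈ Rr CC C → w a ∈ Rr CC (cj q C) := fun q hq a C hC => by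
      have h1 := h.mem_Rr (hQP hq) hC
      have e : q * w a * q⁻¹ = w a := by rw [hQw q hq a, mul_inv_cancel_right]
      rwa [e] at h1
    -- all complements are nonempty
    have hex : ∀ a, ∃ C ∈ CC, w a ∈ Rr CC C := fun a => by
      obtain ⟨b, hb, -⟩ := hB C0 (hpC hC0)
      obtain ⟨g, hg, -, hgw⟩ := k.ex (Equiv.swap b a)
      refine ⟨cj g C0, h.cl g hg _ (hpC hC0), ?_⟩
      have h1 := h.mem_Rr hg hb
      rwa [hgw, Equiv.swap_apply_left] at h1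
    have hor : ∀ a, a ≠ 2 → (∀ C ∈ p, w a ∈ Rr CC C) ∨ ∀ C ∈ p', w a ∈ Rr CC C := fun a ha => by
      obtain ⟨C, hC, hCa⟩ := hex a
      obtain ⟨b, hb, hb'⟩ := hB C hC
      have hab := hb' a hCa
      have h2 : w 2 ∉ Rr CC C := fun h2 => ha (hab.trans (hb' 2 h2).symm)
      rcases (hs C hC).1 h2 with h3 | h3
      · left
        intro D hD
        obtain ⟨q, hq', rfl⟩ := (hp.orb C h3 D).1 hD
        exact hq q hq' a C hCa
      · right
        intro D hD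
        obtain ⟨q, hq', rfl⟩ := (hp'.orb C h3 D).1 hD
        exact hq q hq' a C hCa
    have huq : ∀ C ∈ CC, ∀ a b, w a ∈ Rr CC C → w b ∈ Rr CC C → a = b := fun C hC a b ha hb => by
      obtain ⟨c, -, hc⟩ := hB C hC
      rw [hc a ha, hc b hb]
    -- `a` is the index of `p`, `b` the one of `p'`
    obtain ⟨a, b, hab, ha2, hb2, hpa, hpb⟩ : ∃ a b : Fin 3, a ≠ b ∧ a ≠ 2 ∧ b ≠ 2 ∧ (∀ C ∈ p, w a ∈ Rr CC C) ∧
        ∀ C ∈ p', w b ∈ Rr CC C := by
      rcases hor 0 (by decide) with h0 | h0 <;> rcases hor 1 (by decide) with h1 | h1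
      · exact absurd (huq C0 (hpC hC0) 0 1 (h0 C0 hC0) (h1 C0 hC0)) (by decide)
      · exact ⟨0, 1, by decide, by decide, by decide, h0, h1⟩
      · exact ⟨1, 0, by decide, by decide, by decide, h1, h0⟩
      · exact absurd (huq C0' (hpC' hC0') 0 1 (h0 C0' hC0') (h1 C0' hC0')) (by decide)
    have hbv' : bv = a ∨ bv = b := by
      have h0 : ∀ a b c : Fin 3, a ≠ b → a ≠ 2 → b ≠ 2 → c ≠ 2 → c = a ∨ c = b := by decide
      exact h0 a b bv hab ha2 hb2 hbv2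
    rcases hbv' with rfl | rfl
    · -- `v = w a` : `p^g` is outside of the support of `z`
      obtain ⟨g, hg, hgy, hgw⟩ := k.ex (Equiv.swap bv 2)
      have h1 : g * y * g⁻¹ ∈ N := by
        refine cj_sSup_le (s := p) (fun C hC => ?_) (mem_cj_of hy)
        have h2 := h.mem_Rr hg (hpa C hC)
        rw [hgw, Equiv.swap_apply_left] at h2
        have hCC := h.cl g hg C (hpC hC)
        exact hN _ hCC (fun h3 => (hs _ hCC).2 (Or.inl h3) h2) fun h3 => (hs _ hCC).2 (Or.inr h3) h2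
      rw [hmove g _ hgy hgw bv hbv, Equiv.swap_apply_left] at h1
      exact hzN ((Subgroup.mul_mem_cancel_right N hyN).1 h1)
    · -- `v = w b`
      obtain ⟨g, hg, hgy, hgw⟩ := k.ex (Equiv.swap bv 2)
      have hPP : ∀ C ∈ p, cj g C ∈ p := fun C hC => by
        have h2 := h.mem_Rr hg (hpa C hC)
        rw [hgw, Equiv.swap_apply_of_ne_of_ne hab ha2] at h2
        have hCC := h.cl g hg C (hpC hC)
        have h3 : w 2 ∉ Rr CC (cj g C) := fun h3 => ha2 (huq _ hCC a 2 h2 h3)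
        rcases (hs _ hCC).1 h3 with h4 | h4
        · exact h4
        · exact absurd (huq _ hCC a bv h2 (hpb _ h4)) hab
      have h6 := hdiff g _ hgy hgw bv a hbv (by rw [Equiv.swap_apply_left]; exact hbv2) hab
        (by rw [Equiv.swap_apply_left]; exact ha2) (conj_mem_sSup hPP hy)
      have h7 := hsup C0' (hpC' hC0') (fun h7 => hdis _ h7 hC0') h6
      exact hab (huq C0' (hpC' hC0') a bv h7 (hpb C0' hC0'))

/-- (F): one orbit is everything. -/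
theorem f_one (h : Lines P CC) (k : Tri P w y') {Q : Subgroup G} (hQP : Q ≤ P)
    (hQw : ∀ q ∈ Q, ∀ a, q * w a = w a * q) {p : Set (Subgroup G)} (hp : Orb Q p)
    (hpC : p ⊆ CC) (hs : ∀ C ∈ CC, w 2 ∉ Rr CC C ↔ C ∈ p) :
    p = CC ∧ ∀ C ∈ CC, ∀ a, w a ∉ Rr CC C := by
  obtain ⟨C0, hC0⟩ := hp.ne
  rcases tri h k (hpC hC0) ((hs C0 (hpC hC0)).2 hC0) with hA | hB
  · exact ⟨Set.Subset.antisymm hpC fun C hC => (hs C hC).1 (hA C hC 2), hA⟩
  exfalso
  have hq : ∀ q ∈ Q, ∀ a, ∀ C, w a ∈ Rr CC C → w a ∈ Rr CC (cj q C) := fun q hq a C hC => by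
    have h1 := h.mem_Rr (hQP hq) hC
    have e : q * w a * q⁻¹ = w a := by rw [hQw q hq a, mul_inv_cancel_right]
    rwa [e] at h1
  have hex : ∀ a, ∃ C ∈ CC, w a ∈ Rr CC C := fun a => by
    obtain ⟨b, hb, -⟩ := hB C0 (hpC hC0)
    obtain ⟨g, hg, -, hgw⟩ := k.ex (Equiv.swap b a)
    refine ⟨cj g C0, h.cl g hg _ (hpC hC0), ?_⟩
    have h1 := h.mem_Rr hg hb
    rwa [hgw, Equiv.swap_apply_left] at h1
  have hor : ∀ a, a ≠ 2 → ∀ C ∈ p, w a ∈ Rr CC C := fun a ha => by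
    obtain ⟨C, hC, hCa⟩ := hex a
    obtain ⟨b, hb, hb'⟩ := hB C hC
    have hab := hb' a hCa
    have h2 : w 2 ∉ Rr CC C := fun h2 => ha (hab.trans (hb' 2 h2).symm)
    have h3 := (hs C hC).1 h2
    intro D hD
    obtain ⟨q, hq', rfl⟩ := (hp.orb C h3 D).1 hD
    exact hq q hq' a C hCa
  obtain ⟨c, -, hc⟩ := hB C0 (hpC hC0)
  exact absurd ((hc 0 (hor 0 (by decide) C0 hC0)).trans (hc 1 (hor 1 (by decide) C0 hC0)).symm) (by decide)

end

end Cfsg.Agent.Omega.OM.Lev.Low.WDead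

end

section


/-!
# TEXT LL v2 (helper584 #20624), (6) and (7)(W) over `Set5`

* `tri_of` : `Tri` from a natural module of order 4;
* `Set5.no_two` : the case (W) (two `Q`-orbits of blocks) is impossible;
* `Set5.one_orbit` : in the case (F) (one `Q`-orbit) `P` permutes the lines `[V l, B]`.
-/

set_option autoImplicit false
set_option linter.unusedSectionVars false

namespace Cfsg.Agent.Omega.OM.Lev.Low.WDead

open Subgroup Cfsg Cfsg.Agent.ZN Cfsg.Agent.ZN.ChoiceBase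
open Cfsg.Agent.Omega.NO3S.ThmB (mem_cj_of exists_of_mem_cj)

universe u

variable {G : Type u} [Group G]

/-- The three nontrivial elements of a natural `SL₂(2)`-module. -/
theorem tri_of [Finite G] {P L Vi : Subgroup G} (h4 : Nat.card Vi = 4) (h2 : IsElementaryAbelian 2 Vi)
    (PV : P ≤ normalizer (Vi : Set G)) (LP : L ≤ P)
    (hL : ∀ x ∈ Vi, ∀ x' ∈ Vi, x ≠ 1 → x' ≠ 1 → ∃ g ∈ L, g * x * g⁻¹ = x') {z : G} (hz : z ∈ Vi) (hz1 : z ≠ 1)
    {t : G} (ht : t ∈ L) (htz : t * z = z * t) (htV : t ∉ centralizer (Vi : Set G)) {y' : G}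
    (hy : ∀ g ∈ L, g * y' = y' * g) (hyV : ∀ v ∈ Vi, y' * v = v * y') :
    ∃ w : Fin 3 → G, w 2 = z ∧ Tri P w y' ∧ ∀ v ∈ Vi, v ≠ 1 → ∃ a, v = w a := by
  classical
  have comm : ∀ a ∈ Vi, ∀ b ∈ Vi, a * b = b * a := fun a ha b hb =>
    NO3S.ThmB.elem_comm h2 ha hb
  have sq : ∀ a ∈ Vi, a * a = 1 := fun a ha => by
    have h := h2.2 a ha
    rwa [pow_two] at h
  -- an element moved by `t`
  obtain ⟨v, hv, hvt⟩ : ∃ v ∈ Vi, t * v ≠ v * t := by
    by_contra hcon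
    push Not at hcon
    exact htV (mem_centralizer_iff.2 fun v hv => (hcon v hv).symm)
  have hv1 : v ≠ 1 := fun e => hvt (by rw [e, mul_one, one_mul])
  have hvz : v ≠ z := fun e => hvt (by rw [e]; exact htz)
  have hzv1 : z * v ≠ 1 := fun e => hvz (by
    have := sq z hz
    exact mul_left_cancel (e.trans this.symm))
  -- all elements
  have hall : ∀ x ∈ Vi, x = 1 ∨ x = v ∨ x = z * v ∨ x = z := by
    have hcard : (Set.range ![(1 : G), v, z * v, z]).ncard = 4 := by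
      have hinj : Function.Injective ![(1 : G), v, z * v, z] := by
        intro a b
        fin_cases a <;> fin_cases b <;> simp <;> intro h
        · exact hv1 h.symm
        · exact hzv1 h.symm
        · exact hz1 h.symm
        · exact hv1 h
        · exact hz1 h
        · exact hvz h
        · exact hzv1 h
        · exact hz1 h
        · exact hv1 h
        · exact hz1 h
        · exact hvz h.symm
        · exact hv1 h
      rw [← Set.image_univ, Set.ncard_image_of_injective _ hinj, Set.ncard_univ, Nat.card_eq_fintype_card]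
      simp
    have hsub : Set.range ![(1 : G), v, z * v, z] ⊆ (Vi : Set G) := by
      rintro _ ⟨a, rfl⟩
      fin_cases a
      exacts [one_mem _, hv, mul_mem hz hv, hz]
    have heq : Set.range ![(1 : G), v, z * v, z] = (Vi : Set G) := by
      refine Set.eq_of_subset_of_ncard_le hsub ?_
      rw [hcard]
      have : (Vi : Set G).ncard = 4 := by
        rw [← h4]; rfl
      exact this.le
    intro x hx
    have hx' : x ∈ Set.range ![(1 : G), v, z * v, z] := by rw [heq]; exact hx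
    obtain ⟨a, rfl⟩ := hx'
    fin_cases a <;> simp
  let w : Fin 3 → G := ![v, z * v, z]
  have w0 : w 0 = v := rfl
  have w1 : w 1 = z * v := rfl
  have w2 : w 2 = z := rfl
  have hwV : ∀ a, w a ∈ Vi := by
    intro a
    fin_cases a
    exacts [hv, mul_mem hz hv, hz]
  have hw1 : ∀ a, w a ≠ 1 := by
    intro a
    fin_cases a
    exacts [hv1, hzv1, hz1]
  have hex : ∀ x ∈ Vi, x ≠ 1 → ∃ a, x = w a := by
    intro x hx hx1
    rcases hall x hx with e | e | e | e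
    exacts [absurd e hx1, ⟨0, e⟩, ⟨1, e⟩, ⟨2, e⟩]
  have hinj : Function.Injective w := by
    intro a b
    fin_cases a <;> fin_cases b <;> simp [w] <;> intro h
    · exact hz1 h
    · exact hvz h
    · exact hz1 h
    · exact hv1 h
    · exact hvz h.symm
    · exact hv1 h
  -- conjugation permutes
  have hact : ∀ g ∈ P, ∃ σ : Equiv.Perm (Fin 3), ∀ a, g * w a * g⁻¹ = w (σ a) := by
    intro g hg
    have h1 : ∀ a, ∃ b, g * w a * g⁻¹ = w b := fun a =>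
      hex _ ((mem_normalizer_iff.1 (PV hg) _).1 (hwV a)) fun e => hw1 a (by
        have e2 : w a = g⁻¹ * (g * w a * g⁻¹) * g := by group
        rw [e2, e]; group)
    choose f hf using h1
    have hfi : Function.Injective f := fun a b hab => hinj (by
      have e : g * w a * g⁻¹ = g * w b * g⁻¹ := by rw [hf, hf, hab]
      exact mul_left_cancel (mul_right_cancel e))
    exact ⟨Equiv.ofBijective f ⟨hfi, Finite.surjective_of_injective hfi⟩, hf⟩
  refine ⟨w, rfl, ⟨?_, hact, ?_, fun a => hyV _ (hwV a)⟩, hex⟩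
  · intro a b c hab hca hcb
    have e1 : z * v * v = z := by rw [mul_assoc, sq v hv, mul_one]
    have e2 : z * (z * v) = v := by rw [← mul_assoc, sq z hz, one_mul]
    fin_cases a <;> fin_cases b <;> fin_cases c <;> simp [w] at hab hca hcb ⊢
    · rw [comm v hv _ (mul_mem hz hv), e1]
    · exact comm v hv z hz
    · exact e1
    · rw [comm _ (mul_mem hz hv) z hz, e2]
    · exact e2
  · -- all permutations
    have htr : ∀ a b, ∃ g ∈ L, g * w a * g⁻¹ = w b := fun a b => hL _ (hwV a) _ (hwV b) (hw1 a) (hw1 b)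
    have htm : ∃ σ : Equiv.Perm (Fin 3), (∀ a, t * w a * t⁻¹ = w (σ a)) ∧ σ 2 = 2 ∧ σ 0 ≠ 0 := by
      obtain ⟨σ, hσ⟩ := hact t (LP ht)
      refine ⟨σ, hσ, hinj ?_, fun e => hvt ?_⟩
      · rw [← hσ, w2, htz, mul_inv_cancel_right]
      · have h1 := hσ 0
        rw [e, w0] at h1
        rw [mul_inv_eq_iff_eq_mul] at h1
        exact h1
    obtain ⟨τ, hτ, hτ2, hτ0⟩ := htm
    have hreal : ∀ ρ : Equiv.Perm (Fin 3), (∃ g ∈ L, ∀ a, g * w a * g⁻¹ = w (ρ a)) →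
        ∃ g ∈ P, g * y' = y' * g ∧ ∀ a, g * w a * g⁻¹ = w (ρ a) :=
      fun ρ ⟨g, hg, h⟩ => ⟨g, LP hg, hy g hg, h⟩
    intro ρ
    refine hreal ρ ?_
    obtain ⟨g, hg, hgw⟩ := htr 2 (ρ 2)
    obtain ⟨σ, hσ⟩ := hact g (LP hg)
    have hσ2 : σ 2 = ρ 2 := hinj (by rw [← hσ, hgw])
    by_cases h0 : σ 0 = ρ 0
    · refine ⟨g, hg, fun a => ?_⟩
      have : σ a = ρ a := by
        revert hσ2 h0
        generalize σ = σ, ρ = ρ
        revert a σ ρ
        decide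
      rw [hσ, this]
    · refine ⟨g * t, mul_mem hg ht, fun a => ?_⟩
      have e : g * t * w a * (g * t)⁻¹ = g * (t * w a * t⁻¹) * g⁻¹ := by group
      rw [e, hτ, hσ]
      have h0' : ∀ σ ρ τ : Equiv.Perm (Fin 3), τ 2 = 2 → τ 0 ≠ 0 → σ 2 = ρ 2 → ¬ σ 0 = ρ 0 →
          ∀ a, σ (τ a) = ρ a := by decide
      rw [h0' σ ρ τ hτ2 hτ0 hσ2 h0 a]

end Cfsg.Agent.Omega.OM.Lev.Low.WDead

namespace Cfsg.Agent.Omega.OM.Lev.Low.Five.Set5

open Subgroup Cfsg Cfsg.Agent.ZN Cfsg.Agent.ZN.ChoiceBase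
open Cfsg.Agent.Omega.NO3S.ThmB (mem_cj_of exists_of_mem_cj cj_comm)
open Cfsg.Agent.Omega.OM.Lev.Low.WDead

variable {G : Type*} [Group G] {ι : Type*} {S U H B ZJ P : Subgroup G} {AA : Set (Subgroup G)}
  {K V : ι → Subgroup G} (X : Set5 S U H B ZJ P AA K V)

/-- The lines: the `P`-conjugates of the `[V l, B]`. -/
def CC (B P : Subgroup G) (V : ι → Subgroup G) : Set (Subgroup G) := {C | ∃ g ∈ P, ∃ l, C = cj g ⁅V l, B⁆}

theorem cj_line {b : G} (hb : b ∈ B) {l m : ι} (e : cj b (V l) = V m) : cj b ⁅V l, B⁆ = ⁅V m, B⁆ := by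
  rw [cj_comm, e, cj_eq_of_mem_normalizer (le_normalizer hb)]

theorem mem_CC (l : ι) : ⁅V l, B⁆ ∈ CC B P V := ⟨1, one_mem _, l, (cj_one _).symm⟩

include X

/-- The lines are permuted transitively. -/
theorem lines (trB : ∀ l m, ∃ b ∈ B, cj b (V l) = V m) : Lines P (CC B P V) where
  cl := by
    rintro g hg _ ⟨g', hg', l, rfl⟩
    exact ⟨g * g', mul_mem hg hg', l, cj_cj _ _ _⟩
  tr := by
    rintro _ ⟨g, hg, l, rfl⟩ _ ⟨g', hg', m, rfl⟩
    obtain ⟨b, hb, e⟩ := trB l m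
    refine ⟨g' * b * g⁻¹, mul_mem (mul_mem hg' (X.BP hb)) (inv_mem hg), ?_⟩
    rw [cj_cj, ← cj_line hb e, cj_cj]
    congr 1
    group

/-- A line which is none of the `[V m, B]` is centralised by all `K l`. -/
theorem le_cen [Finite G] {C : Subgroup G} (hC : C ∈ CC B P V) (l : ι) :
    C = ⁅V l, B⁆ ∨ C ≤ centralizer (K l : Set G) := by
  obtain ⟨g, hg, m, rfl⟩ := hC
  exact X.five hg l m

theorem Rr_le [Finite G] (l : ι) : Rr (CC B P V) ⁅V l, B⁆ ≤ centralizer (K l : Set G) :=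
  sSup_le fun _ hC => (X.le_cen hC.1 l).resolve_left fun e => hC.2 e

theorem supp_iff [Finite G] {z : G} (hz : z ∈ sSup (Set.range fun l => ⁅V l, B⁆))
    (hz' : ∀ l, z ∉ centralizer (K l : Set G)) {C : Subgroup G} (hC : C ∈ CC B P V) :
    z ∉ Rr (CC B P V) C ↔ ∃ l, C = ⁅V l, B⁆ := by
  constructor
  · intro h
    by_contra hn
    push Not at hn
    have h3 : sSup (Set.range fun l => ⁅V l, B⁆) ≤ Rr (CC B P V) C := by
      refine sSup_le ?_
      rintro _ ⟨l, rfl⟩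
      exact le_sSup ⟨mem_CC l, fun e => hn l (by
        have e' : ⁅V l, B⁆ = C := e
        exact e'.symm)⟩
    exact h (h3 hz)
  · rintro ⟨l, rfl⟩ h
    exact hz' l (X.Rr_le l h)

/-- **The case (W) is impossible.** -/
theorem no_two [Finite G] {w : Fin 3 → G} {y' : G} (k : Tri P w y') {Q : Subgroup G} (QB : Q ≤ B)
    (PQ : P ≤ normalizer (Q : Set G)) (Qw : ∀ q ∈ Q, ∀ a, q * w a = w a * q)
    (trB : ∀ l m, ∃ b ∈ B, cj b (V l) = V m)
    (cK : ∀ l m, l ≠ m → ⁅V l, B⁆ ≤ centralizer (K m : Set G))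
    (hz : w 2 ∈ sSup (Set.range fun l => ⁅V l, B⁆)) (hz' : ∀ l, w 2 ∉ centralizer (K l : Set G))
    {σ : ι → Prop} (h1 : ∃ l, σ l) (h2 : ∃ l, ¬ σ l)
    (hQ : ∀ q ∈ Q, ∀ l, ∃ m, (σ l ↔ σ m) ∧ cj q (V l) = V m)
    (hQ' : ∀ l m, (σ l ↔ σ m) → ∃ q ∈ Q, cj q (V l) = V m)
    {y v : G} (hy : y ∈ sSup {C | ∃ l, σ l ∧ C = ⁅V l, B⁆}) (hyv : y = v * y') (hv : v = w 0 ∨ v = w 1)
    (hy' : ∀ l, y' ∈ centralizer (K l : Set G)) : False := by
  have hne : ∀ l, ¬ ⁅V l, B⁆ ≤ centralizer (K l : Set G) := fun l hl => hz' l (by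
    have h3 : sSup (Set.range fun l => ⁅V l, B⁆) ≤ centralizer (K l : Set G) := by
      refine sSup_le ?_
      rintro _ ⟨m, rfl⟩
      by_cases e : m = l
      · rw [e]; exact hl
      · exact cK m l e
    exact h3 hz)
  have hinj : ∀ l m, ⁅V l, B⁆ = ⁅V m, B⁆ → l = m := fun l m e => by
    by_contra hn
    exact hne m (e ▸ cK l m hn)
  have horb : ∀ τ : ι → Prop, (∃ l, τ l) → (∀ q ∈ Q, ∀ l, ∃ m, (τ l ↔ τ m) ∧ cj q (V l) = V m) →
      (∀ l m, (τ l ↔ τ m) → ∃ q ∈ Q, cj q (V l) = V m) → Orb Q {C | ∃ l, τ l ∧ C = ⁅V l, B⁆} := by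
    intro τ h3 h4 h5
    obtain ⟨l0, hl0⟩ := h3
    refine ⟨⟨_, l0, hl0, rfl⟩, ?_⟩
    rintro _ ⟨l, hl, rfl⟩ D
    constructor
    · rintro ⟨m, hm, rfl⟩
      obtain ⟨q, hq, e⟩ := h5 l m ⟨fun _ => hm, fun _ => hl⟩
      exact ⟨q, hq, cj_line (QB hq) e⟩
    · rintro ⟨q, hq, rfl⟩
      obtain ⟨m, hm, e⟩ := h4 q hq l
      exact ⟨m, hm.1 hl, cj_line (QB hq) e⟩
  have hp := horb σ h1 hQ hQ'
  have hp' := horb (fun l => ¬ σ l) h2 (fun q hq l => by
    obtain ⟨m, hm, e⟩ := hQ q hq l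
    exact ⟨m, not_congr hm, e⟩) fun l m h => hQ' l m (not_iff_not.1 h)
  refine w_dead (X.lines trB) k PQ (QB.trans X.BP) Qw hp hp' ?_ ?_ ?_ ?_ hy hyv hv
    (N := centralizer (K h1.choose : Set G)) ?_ (hy' _) (hz' _)
  · rintro _ ⟨l, -, rfl⟩
    exact mem_CC l
  · rintro _ ⟨l, -, rfl⟩
    exact mem_CC l
  · rintro _ ⟨l, hl, rfl⟩ ⟨m, hm, e⟩
    exact hm (hinj l m e ▸ hl)
  · intro C hC
    rw [X.supp_iff hz hz' hC]
    constructor
    · rintro ⟨l, rfl⟩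
      by_cases h : σ l
      · exact Or.inl ⟨l, h, rfl⟩
      · exact Or.inr ⟨l, h, rfl⟩
    · rintro (⟨l, -, rfl⟩ | ⟨l, -, rfl⟩) <;> exact ⟨l, rfl⟩
  · intro C hC hn hn'
    refine (X.le_cen hC h1.choose).resolve_left fun e => ?_
    exact hn ⟨_, h1.choose_spec, e⟩

/-- **The case (F)**: the lines of one `Q`-orbit are all lines. -/
theorem one_orbit [Finite G] {w : Fin 3 → G} {y' : G} (k : Tri P w y') {Q : Subgroup G} (QB : Q ≤ B)
    (Qw : ∀ q ∈ Q, ∀ a, q * w a = w a * q)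
    (hz : w 2 ∈ sSup (Set.range fun l => ⁅V l, B⁆)) (hz' : ∀ l, w 2 ∉ centralizer (K l : Set G)) (h1 : Nonempty ι)
    (hQ : ∀ q ∈ Q, ∀ l, ∃ m, cj q (V l) = V m)
    (hQ' : ∀ l m, ∃ q ∈ Q, cj q (V l) = V m) :
    (∀ g ∈ P, ∀ l, ∃ m, cj g ⁅V l, B⁆ = ⁅V m, B⁆) ∧ ∀ l a, w a ∉ Rr (CC B P V) ⁅V l, B⁆ := by
  have hp : Orb Q (Set.range fun l => ⁅V l, B⁆) := by
    obtain ⟨l0⟩ := h1
    refine ⟨⟨_, l0, rfl⟩, ?_⟩
    rintro _ ⟨l, rfl⟩ D
    constructor
    · rintro ⟨m, rfl⟩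
      obtain ⟨q, hq, e⟩ := hQ' l m
      exact ⟨q, hq, cj_line (QB hq) e⟩
    · rintro ⟨q, hq, rfl⟩
      obtain ⟨m, e⟩ := hQ q hq l
      exact ⟨m, (cj_line (QB hq) e).symm⟩
  have h3 := f_one (X.lines fun l m => by
    obtain ⟨q, hq, e⟩ := hQ' l m
    exact ⟨q, QB hq, e⟩) k (QB.trans X.BP) Qw hp (by
      rintro _ ⟨l, rfl⟩
      exact mem_CC l) fun C hC => by
      rw [X.supp_iff hz hz' hC]
      exact ⟨fun ⟨l, hl⟩ => ⟨l, hl.symm⟩, fun ⟨l, hl⟩ => ⟨l, hl.symm⟩⟩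
  refine ⟨fun g hg l => ?_, fun l a => h3.2 _ (mem_CC l) a⟩
  have h4 : cj g ⁅V l, B⁆ ∈ Set.range fun l => ⁅V l, B⁆ := by
    rw [h3.1]
    exact ⟨g, hg, l, rfl⟩
  obtain ⟨m, hm⟩ := h4
  exact ⟨m, hm.symm⟩

end Cfsg.Agent.Omega.OM.Lev.Low.Five.Set5

end

section


/-!
# TEXT LL v2 (helper584 #20624), (W) over `Set5`, `P` transitive

`no_two'` : `Set5.no_two` with `P ∩ N(B)` transitive on the `V l` and `Q ≤ P ∩ N(B)` (`Q ≰ B`).
-/

set_option autoImplicit false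
set_option linter.unusedSectionVars false

namespace Cfsg.Agent.Omega.OM.Lev.Low.Five.Set5

open Subgroup Cfsg Cfsg.Agent.ZN Cfsg.Agent.ZN.ChoiceBase
open Cfsg.Agent.Omega.NO3S.ThmB (mem_cj_of exists_of_mem_cj cj_comm)
open Cfsg.Agent.Omega.OM.Lev.Low.WDead

variable {G : Type*} [Group G] {ι : Type*} {S U H B ZJ P : Subgroup G} {AA : Set (Subgroup G)}
  {K V : ι → Subgroup G} (X : Set5 S U H B ZJ P AA K V)

theorem cj_line' {b : G} (hb : b ∈ normalizer (B : Set G)) {l m : ι} (e : cj b (V l) = V m) :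
    cj b ⁅V l, B⁆ = ⁅V m, B⁆ := by
  rw [cj_comm, e, cj_eq_of_mem_normalizer hb]

include X

/-- The lines are permuted transitively. -/
theorem lines' (trP : ∀ l m, ∃ b ∈ P, b ∈ normalizer (B : Set G) ∧ cj b (V l) = V m) : Lines P (CC B P V) where
  cl := by
    rintro g hg _ ⟨g', hg', l, rfl⟩
    exact ⟨g * g', mul_mem hg hg', l, cj_cj _ _ _⟩
  tr := by
    rintro _ ⟨g, hg, l, rfl⟩ _ ⟨g', hg', m, rfl⟩
    obtain ⟨b, hb, hbB, e⟩ := trP l m
    refine ⟨g' * b * g⁻¹, mul_mem (mul_mem hg' hb) (inv_mem hg), ?_⟩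
    rw [cj_cj, ← cj_line' hbB e, cj_cj]
    congr 1
    group

/-- **The case (W) is impossible.** -/
theorem no_two' [Finite G] {w : Fin 3 → G} {y' : G} (k : Tri P w y') {Q : Subgroup G} (QP : Q ≤ P)
    (QB : Q ≤ normalizer (B : Set G))
    (PQ : P ≤ normalizer (Q : Set G)) (Qw : ∀ q ∈ Q, ∀ a, q * w a = w a * q)
    (trP : ∀ l m, ∃ b ∈ P, b ∈ normalizer (B : Set G) ∧ cj b (V l) = V m)
    (cK : ∀ l m, l ≠ m → ⁅V l, B⁆ ≤ centralizer (K m : Set G))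
    (hz : w 2 ∈ sSup (Set.range fun l => ⁅V l, B⁆)) (hz' : ∀ l, w 2 ∉ centralizer (K l : Set G))
    {σ : ι → Prop} (h1 : ∃ l, σ l) (h2 : ∃ l, ¬ σ l)
    (hQ : ∀ q ∈ Q, ∀ l, ∃ m, (σ l ↔ σ m) ∧ cj q (V l) = V m)
    (hQ' : ∀ l m, (σ l ↔ σ m) → ∃ q ∈ Q, cj q (V l) = V m)
    {y v : G} (hy : y ∈ sSup {C | ∃ l, σ l ∧ C = ⁅V l, B⁆}) (hyv : y = v * y') (hv : v = w 0 ∨ v = w 1)
    (hy' : ∀ l, y' ∈ centralizer (K l : Set G)) : False := by
  have hne : ∀ l, ¬ ⁅V l, B⁆ ≤ centralizer (K l : Set G) := fun l hl => hz' l (by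
    have h3 : sSup (Set.range fun l => ⁅V l, B⁆) ≤ centralizer (K l : Set G) := by
      refine sSup_le ?_
      rintro _ ⟨m, rfl⟩
      by_cases e : m = l
      · rw [e]; exact hl
      · exact cK m l e
    exact h3 hz)
  have hinj : ∀ l m, ⁅V l, B⁆ = ⁅V m, B⁆ → l = m := fun l m e => by
    by_contra hn
    exact hne m (e ▸ cK l m hn)
  have horb : ∀ τ : ι → Prop, (∃ l, τ l) → (∀ q ∈ Q, ∀ l, ∃ m, (τ l ↔ τ m) ∧ cj q (V l) = V m) →
      (∀ l m, (τ l ↔ τ m) → ∃ q ∈ Q, cj q (V l) = V m) → Orb Q {C | ∃ l, τ l ∧ C = ⁅V l, B⁆} := by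
    intro τ h3 h4 h5
    obtain ⟨l0, hl0⟩ := h3
    refine ⟨⟨_, l0, hl0, rfl⟩, ?_⟩
    rintro _ ⟨l, hl, rfl⟩ D
    constructor
    · rintro ⟨m, hm, rfl⟩
      obtain ⟨q, hq, e⟩ := h5 l m ⟨fun _ => hm, fun _ => hl⟩
      exact ⟨q, hq, cj_line' (QB hq) e⟩
    · rintro ⟨q, hq, rfl⟩
      obtain ⟨m, hm, e⟩ := h4 q hq l
      exact ⟨m, hm.1 hl, cj_line' (QB hq) e⟩
  have hp := horb σ h1 hQ hQ'
  have hp' := horb (fun l => ¬ σ l) h2 (fun q hq l => by
    obtain ⟨m, hm, e⟩ := hQ q hq l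
    exact ⟨m, not_congr hm, e⟩) fun l m h => hQ' l m (not_iff_not.1 h)
  refine w_dead (X.lines' trP) k PQ QP Qw hp hp' ?_ ?_ ?_ ?_ hy hyv hv
    (N := centralizer (K h1.choose : Set G)) ?_ (hy' _) (hz' _)
  · rintro _ ⟨l, -, rfl⟩
    exact mem_CC l
  · rintro _ ⟨l, -, rfl⟩
    exact mem_CC l
  · rintro _ ⟨l, hl, rfl⟩ ⟨m, hm, e⟩
    exact hm (hinj l m e ▸ hl)
  · intro C hC
    rw [X.supp_iff hz hz' hC]
    constructor
    · rintro ⟨l, rfl⟩
      by_cases h : σ l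
      · exact Or.inl ⟨l, h, rfl⟩
      · exact Or.inr ⟨l, h, rfl⟩
    · rintro (⟨l, -, rfl⟩ | ⟨l, -, rfl⟩) <;> exact ⟨l, rfl⟩
  · intro C hC hn hn'
    refine (X.le_cen hC h1.choose).resolve_left fun e => ?_
    exact hn ⟨_, h1.choose_spec, e⟩

end Cfsg.Agent.Omega.OM.Lev.Low.Five.Set5

end
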